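/-
Project J4P.  The amalgam of 2^11 : M24 and one further involution.
Data generated by tools_h70/j4/q0.py, q2.py, q4.py, run4.py.
-/
import Cfsg.Agent.SGJ4.Conj

set_option autoImplicit false

namespace Cfsg.Agent.J4P

open Cfsg.Agent.SGJ4 Cfsg.Agent.H14 AG Subgroup
open scoped Pointwise

section
variable {Γ : Type*} [Group Γ] {A : Subgroup AG}

/-- a homomorphism from a subgroup of `AG` as a function on `AG` (value 1 outside) -/
noncomputable def ex (φ : A →* Γ) (a : AG) : Γ := by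
  classical exact if h : a ∈ A then φ ⟨a, h⟩ else 1

variable {φ : A →* Γ}

theorem ex_eq {a : AG} (h : a ∈ A) : ex φ a = φ ⟨a, h⟩ := dif_pos h
theorem ex_coe (a : A) : ex φ a = φ a := dif_pos a.2
theorem ex_mul {a b : AG} (ha : a ∈ A) (hb : b ∈ A) : ex φ (a * b) = ex φ a * ex φ b := by
  rw [ex_eq ha, ex_eq hb, ex_eq (mul_mem ha hb), ← map_mul]; rfl
theorem ex_one : ex φ 1 = 1 := by rw [ex_eq (one_mem _)]; exact map_one φ
theorem ex_inv {a : AG} (ha : a ∈ A) : ex φ a⁻¹ = (ex φ a)⁻¹ := by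
  rw [ex_eq ha, ex_eq (inv_mem ha), ← map_inv]; rfl
theorem ex_pow {a : AG} (ha : a ∈ A) (n : ℕ) : ex φ (a ^ n) = ex φ a ^ n := by
  rw [ex_eq ha, ex_eq (pow_mem ha n), ← map_pow]; rfl
theorem ex_conj {a b : AG} (ha : a ∈ A) (hb : b ∈ A) :
    ex φ (a * b * a⁻¹) = ex φ a * ex φ b * (ex φ a)⁻¹ := by
  rw [ex_mul (mul_mem ha hb) (inv_mem ha), ex_mul ha hb, ex_inv ha]
theorem ex_mem_range (a : AG) : ex φ a ∈ φ.range := by
  by_cases h : a ∈ A
  · exact ⟨_, (ex_eq h).symm⟩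
  · rw [ex, dif_neg h]; exact one_mem _
theorem map_ex {Δ : Type*} [Group Δ] (f : Γ →* Δ) (a : AG) : f (ex φ a) = ex (f.comp φ) a := by
  by_cases h : a ∈ A
  · rw [ex_eq h, ex_eq h]; rfl
  · rw [ex, ex, dif_neg h, dif_neg h, map_one]
theorem ex_inclusion {B : Subgroup AG} (h : B ≤ A) {a : AG} (ha : a ∈ B) :
    ex (φ.comp (inclusion h)) a = ex φ a := by rw [ex_eq ha, ex_eq (h ha)]; rfl
end

/-- test for membership in `Ks` -/
noncomputable def inKs (c : ℕ) : Bool := inNf c && Nat.beq (cV c) (nat_lit 0)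

theorem inS_Ks {c : ℕ} (h : inKs c = true) : InS Ks c := by
  simp only [inKs, Bool.and_eq_true, beq_iff] at h
  obtain ⟨a, ha, rfl⟩ := inS_Nf h.1
  exact ⟨a, ⟨ha, Vb.ext (by rw [← cV_cd]; exact h.2)⟩, rfl⟩

/-! the trio -/

def oc1 : ℕ := nat_lit 628112
def oc2 : ℕ := nat_lit 7612992
def oc3 : ℕ := nat_lit 8536111

def trio0 : Finset (Finset GolayPt) := {bits oc1, bits oc2, bits oc3}

/-- the stabiliser of the trio in the complement -/
def KT : Subgroup AG := Ks ⊓ (MulAction.stabilizer (Equiv.Perm GolayPt) trio0).comap pr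

/-- the stabiliser of the sextet `zs` in the complement -/
def KS : Subgroup AG := Ks ⊓ N1

theorem mem_KT {a : AG} : a ∈ KT ↔ a ∈ Ks ∧ a.p • trio0 = trio0 := Iff.rfl

theorem mem_KS {a : AG} : a ∈ KS ↔ a ∈ Ks ∧ a.m zs = zs := by
  rw [KS, mem_inf]
  refine and_congr_right fun h => ?_
  rw [N1, mem_inf, mem_centralizer_singleton_iff, zN, mul_tr, mul_left_inj, tr_inj]
  exact and_iff_right (Ks_le_Ns h)

def isOc (m : ℕ) : Bool := Nat.beq m oc1 || Nat.beq m oc2 || Nat.beq m oc3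

noncomputable def fixT (P : ℕ) : Bool := isOc (pimg P oc1) && isOc (pimg P oc2) && isOc (pimg P oc3)

theorem bits_mem_trio0 {m : ℕ} (h : isOc m = true) : bits m ∈ trio0 := by
  simp only [isOc, Bool.or_eq_true, beq_iff] at h
  rcases h with (rfl | rfl) | rfl <;> simp [trio0]

theorem smul_trio0 {g : Equiv.Perm GolayPt} (h : fixT (GE.pk g) = true) : g • trio0 = trio0 := by
  simp only [fixT, Bool.and_eq_true] at h
  refine Finset.eq_of_subset_of_card_le (fun s hs => ?_) (Finset.card_smul_finset g _).ge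
  obtain ⟨o, ho, rfl⟩ := Finset.mem_smul_finset.1 hs
  simp only [trio0, Finset.mem_insert, Finset.mem_singleton] at ho
  rcases ho with rfl | rfl | rfl <;> rw [H14.smul_bits]
  exacts [bits_mem_trio0 h.1.1, bits_mem_trio0 h.1.2, bits_mem_trio0 h.2]

noncomputable def inKT (c : ℕ) : Bool := inKs c && fixT (cP c)
noncomputable def inKS (c : ℕ) : Bool := inKs c && Nat.beq (ap (cA c) (nat_lit 834)) (nat_lit 834)

theorem inS_KT {c : ℕ} (h : inKT c = true) : InS KT c := by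
  simp only [inKT, Bool.and_eq_true] at h
  obtain ⟨a, ha, rfl⟩ := inS_Ks h.1
  exact ⟨a, mem_KT.2 ⟨ha, smul_trio0 (by rw [← cP_cd]; exact h.2)⟩, rfl⟩

theorem inS_KS {c : ℕ} (h : inKS c = true) : InS KS c := by
  simp only [inKS, Bool.and_eq_true, beq_iff] at h
  obtain ⟨a, ha, rfl⟩ := inS_Ks h.1
  exact ⟨a, mem_KS.2 ⟨ha, Vb.ext (by rw [val_m]; exact h.2)⟩, rfl⟩

theorem KT_le_Ks : KT ≤ Ks := inf_le_left
theorem KS_le_Ks : KS ≤ Ks := inf_le_left
theorem KS_le_N1 : KS ≤ N1 := inf_le_right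
theorem N1_le_Ns : N1 ≤ Ns := inf_le_left

/-! named elements -/

def ckx : ℕ := nat_lit 0x6e33dab1d010040080004100ecc0200010021a15094dd43458d3d4965bc49b9401
def cky : ℕ := nat_lit 0x800020b661001ed6e30043da008400080200bc4b438dc87da758240b6c9843082a
def cku : ℕ := nat_lit 0x8040400e3a800ecc3da0200040807b46e37cacbb991174d23682851560161c8a
def cr1 : ℕ := nat_lit 0xd4b400020b6600880049f0103dac750049b315a257dc30401c45b1333986aa4aad
def crz : ℕ := nat_lit 0xb1de3ab668003da0200010800089b300404052cb744593791d235130ad8ed18820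
def clz : ℕ := nat_lit 0x20800081edc759b37b449fb66e3a3da0206cde7011212ad11539971c2a2a48d6
def cp2 : ℕ := nat_lit 0x101007b4eccb66e3a0800040203da400c75851262ae6e8a2c0a8e570b5e2510ec
def cw2 : ℕ := nat_lit 0x400100800249fb1db66d4b020c75400100731ed0a8a2882d4ac0c3222e93ae72
def ca0 : ℕ := nat_lit 0x996e3002ecc7b4080e3ac7501000849f4000011b4c99ac10786cc92a883d444b95d1
def cd0 : ℕ := nat_lit 0x8003dab1d1ed7b49b3020e3aecc004001002ba1474922b3398d85676a3cb218820
def cbt : ℕ := nat_lit 0x9b621b2ad81b7adc3651cc963e19bef1f05ea1abaaad98d692328e8da053990f90820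
def cn2 : ℕ := nat_lit 0x7da001200400ecc080e3a1ed0100089b37b4800656c69acf079137915a88d14e18820
def cn3 : ℕ := nat_lit 0x800004001100002ecc400e3a0080201edb66bb99469acb7c4e54015098ea490829
def cn4 : ℕ := nat_lit 0x404001ede3ab660080100806e30203dad4b958eb2be131c5027059435c0a6d524
def cn6 : ℕ := nat_lit 0x40010c75e3aecc0020201006e3400b661ed9400b336341d8a79b08e43c4abd521

/-- images of the generators `x`, `y` of the presentation, and of the word
`y x y (x y⁻¹)² (x y)³`; `kx` and `ku` generate `KT` -/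
noncomputable def kx : AG := ofC ckx
noncomputable def ky : AG := ofC cky
noncomputable def ku : AG := ofC cku
/-- order 3, in `KS`, permutes three trios with a common octad -/
noncomputable def r1 : AG := ofC cr1
/-- order 3, in `KS`, permutes three trios without common octad -/
noncomputable def rz : AG := ofC crz
/-- order 3, in `KT`, permutes `zs` and two further sextets with sum zero -/
noncomputable def lz : AG := ofC clz
/-- the words `(y x y x y x y)³` and `(x y)³ y (x y)⁶ y` -/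
noncomputable def p2 : AG := ofC cp2
noncomputable def w2 : AG := ofC cw2
/-- a sextet that splits one octad of the trio only, and its conjugate `a0` under `t` -/
def v0 : Vb := Vb.of 153
noncomputable def a0 : AG := ofC ca0
/-- a duad that meets two octads of the trio, and the cube `d0` of its product with `t` -/
def v1 : Vb := Vb.of 3
noncomputable def d0 : AG := ofC cd0
/-- image of `t` in the model `Hb` -/
noncomputable def bt0 : AG := ofC cbt
noncomputable def n2 : AG := ofC cn2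
noncomputable def n3 : AG := ofC cn3
noncomputable def n4 : AG := ofC cn4
noncomputable def n6 : AG := ofC cn6

theorem inS_ckx : InS KT ckx := inS_KT (by decide +kernel)
theorem inS_cky : InS Ks cky := inS_Ks (by decide +kernel)
theorem inS_cku : InS KT cku := inS_KT (by decide +kernel)
theorem inS_cr1 : InS KS cr1 := inS_KS (by decide +kernel)
theorem inS_crz : InS KS crz := inS_KS (by decide +kernel)
theorem inS_clz : InS KT clz := inS_KT (by decide +kernel)
theorem inS_cp2 : InS KT cp2 := inS_KT (by decide +kernel)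
theorem inS_cw2 : InS Ks cw2 := inS_Ks (by decide +kernel)
theorem inS_ca0 : InS Ns ca0 := inS_Ns (by decide +kernel)
theorem inS_cd0 : InS KT cd0 := inS_KT (by decide +kernel)
theorem inS_cd0' : InS KS cd0 := inS_KS (by decide +kernel)
theorem inS_cn2 : InS Ns cn2 := inS_Ns (by decide +kernel)
theorem inS_cn3 : InS Ks cn3 := inS_Ks (by decide +kernel)
theorem inS_cn4 : InS Ks cn4 := inS_Ks (by decide +kernel)
theorem inS_cn6 : InS Ks cn6 := inS_Ks (by decide +kernel)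
theorem v0_mem : v0 ∈ Ev := mem_Ev'.2 (by decide +kernel)
theorem v1_mem : v1 ∈ Ev := mem_Ev'.2 (by decide +kernel)

/-- the twist: conjugation by an odd translation -/
def sig (a : AG) : AG := tr (Vb.e 0) * a * (tr (Vb.e 0))⁻¹

/-- the first seven relators of the presentation -/
def Rel7 {Γ : Type*} [Group Γ] (x y : Γ) : Prop :=
  x ^ 2 = 1 ∧ y ^ 3 = 1 ∧ (x * y) ^ 23 = 1 ∧ (x⁻¹ * y⁻¹ * x * y) ^ 12 = 1 ∧
  (x⁻¹ * (y * x * y)⁻¹ * x * (y * x * y)) ^ 5 = 1 ∧
  (x * y * ((x * y * x * (y⁻¹)) ^ 3)) ^ 4 = 1 ∧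
  ((x * y * x * y * x * (y⁻¹)) ^ 3) * ((x * y * x * (y⁻¹) * x * (y⁻¹)) ^ 3) = 1

/-- the last five relators of the presentation -/
def Rel5 {Γ : Type*} [Group Γ] (x y t : Γ) : Prop :=
  t ^ 2 = 1 ∧
  t⁻¹ * (y * x * y * ((x * (y⁻¹)) ^ 2) * ((x * y) ^ 3))⁻¹ * t *
    (y * x * y * ((x * (y⁻¹)) ^ 2) * ((x * y) ^ 3)) = 1 ∧
  t⁻¹ * x⁻¹ * t * x = 1 ∧
  (y * ((y * x * (y⁻¹) * x * y * x * (y⁻¹) * x)⁻¹ * t *
    (y * x * (y⁻¹) * x * y * x * (y⁻¹) * x))) ^ 3 = 1 ∧
  (((y * x * y * x * y * x * y) ^ 3) * t * ((((x * y) ^ 3) * y * ((x * y) ^ 6) * y)⁻¹ * t *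
    (((x * y) ^ 3) * y * ((x * y) ^ 6) * y))) ^ 2 = 1

/-- the symmetric presentation: M24 and an involution -/
structure Pre (Γ : Type*) [Group Γ] where
  ψ : Ks →* Γ
  t : Γ
  t_sq : t * t = 1
  comm : ∀ a ∈ KT, t * ex ψ a = ex ψ a * t
  tri : (t * ex ψ r1) ^ 3 = 1
  quad : (ex ψ p2 * t * ((ex ψ w2)⁻¹ * t * ex ψ w2)) ^ 2 = 1

/-- M24 and a sextet involution -/
structure PreV (Γ : Type*) [Group Γ] where
  ψ : Ks →* Γ
  z : Γ
  z_sq : z * z = 1
  comm : ∀ a ∈ KS, z * ex ψ a = ex ψ a * z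
  line : (z * ex ψ lz) ^ 3 = 1

/-- the amalgam without the line relation -/
structure Amal0 (Γ : Type*) [Group Γ] where
  φ : Ns →* Γ
  t : Γ
  t_sq : t * t = 1
  comm : ∀ a ∈ KT, t * ex φ a = ex φ a * t
  alpha : t * ex φ (tr v0) = ex φ a0 * t
  tri : (t * ex φ r1) ^ 3 = 1

/-- the amalgam -/
structure Amal (Γ : Type*) [Group Γ] extends Amal0 Γ where
  line : (t * ex φ (tr v1)) ^ 3 = ex φ d0

namespace Amal

variable {Γ Δ : Type*} [Group Γ] [Group Δ] (A : Amal Γ)

/-- the subgroup generated by the amalgam -/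
def gen : Subgroup Γ := closure (Set.range A.φ ∪ {A.t})

/-- the subgroup generated by the centraliser of `zN` in `Ns` and `t` -/
def genH : Subgroup Γ := closure (ex A.φ '' N1 ∪ {A.t})

/-- double coset representatives -/
noncomputable def u : ℕ → Γ
  | 0 => 1
  | 1 => A.t
  | 2 => A.t * ex A.φ n2 * A.t
  | 3 => A.t * ex A.φ n3 * A.t
  | 4 => A.t * ex A.φ n4 * A.t
  | 5 => A.t * ex A.φ ky * (A.t * ex A.φ n2 * A.t)
  | _ => A.t * ex A.φ n6 * (A.t * ex A.φ n3 * A.t)

/-- the elements of `Ns` that fix the coset of `u j` -/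
def St (j : ℕ) : Subgroup AG where
  carrier := {s | s ∈ Ns ∧ ∃ h ∈ Ns, ex A.φ s * A.u j = A.u j * ex A.φ h}
  one_mem' := ⟨one_mem _, 1, one_mem _, by rw [ex_one, one_mul, mul_one]⟩
  mul_mem' := fun {a b} ⟨ha, h, hh, e⟩ ⟨hb, k, hk, e'⟩ => ⟨mul_mem ha hb, h * k, mul_mem hh hk, by
    rw [ex_mul ha hb, ex_mul hh hk, mul_assoc, e', ← mul_assoc, e, mul_assoc]⟩
  inv_mem' := fun {a} ⟨ha, h, hh, e⟩ => ⟨inv_mem ha, h⁻¹, inv_mem hh, by
    rw [ex_inv ha, ex_inv hh, inv_mul_eq_iff_eq_mul, ← mul_assoc, e, mul_inv_cancel_right]⟩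

theorem mem_St {j : ℕ} {s : AG} :
    s ∈ A.St j ↔ s ∈ Ns ∧ ∃ h ∈ Ns, ex A.φ s * A.u j = A.u j * ex A.φ h := Iff.rfl

theorem ex_mem_gen (a : AG) : ex A.φ a ∈ A.gen := subset_closure (Or.inl (ex_mem_range a))
theorem t_mem_gen : A.t ∈ A.gen := subset_closure (Or.inr rfl)

/-- image under a homomorphism -/
def map (f : Γ →* Δ) : Amal Δ where
  φ := f.comp A.φ
  t := f A.t
  t_sq := by rw [← map_mul, A.t_sq, map_one]
  comm a ha := by rw [← map_ex, ← map_mul, A.comm a ha, map_mul]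
  alpha := by rw [← map_ex, ← map_ex, ← map_mul, A.alpha, map_mul]
  tri := by rw [← map_ex, ← map_mul, ← map_pow, A.tri, map_one]
  line := by rw [← map_ex, ← map_ex, ← map_mul, ← map_pow, A.line]

theorem ex_prod (B : Amal Δ) (a : AG) : ex (A.φ.prod B.φ) a = (ex A.φ a, ex B.φ a) :=
  Prod.ext (map_ex (MonoidHom.fst Γ Δ) a) (map_ex (MonoidHom.snd Γ Δ) a)

/-- the pair of two amalgams -/
def prod (B : Amal Δ) : Amal (Γ × Δ) where
  φ := A.φ.prod B.φ
  t := (A.t, B.t)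
  t_sq := Prod.ext A.t_sq B.t_sq
  comm a ha := by rw [ex_prod]; exact Prod.ext (A.comm a ha) (B.comm a ha)
  alpha := by rw [ex_prod, ex_prod]; exact Prod.ext A.alpha B.alpha
  tri := by rw [ex_prod]; exact Prod.ext A.tri B.tri
  line := by rw [ex_prod, ex_prod]; exact Prod.ext A.line B.line

end Amal

end Cfsg.Agent.J4P
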