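/-
Project J4P.  Data of the enumeration of the three double cosets of `N1` (generated by tools_h70/j4/genH.py).
-/
import Cfsg.Agent.J4P.Cov

set_option autoImplicit false
set_option Elab.async false
set_option maxRecDepth 100000

namespace Cfsg.Agent.J4P

open Cfsg.Agent.SGJ4 Cfsg.Agent.H14 AG Subgroup
open scoped Pointwise

noncomputable def inN1 (c : ℕ) : Bool := bd (inNs c) (Nat.beq (ap (cA c) (nat_lit 834)) (nat_lit 834))

theorem inS_N1 {c : ℕ} (h : inN1 c = true) : InS N1 c := by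
  simp only [inN1, bd_iff, beq_iff] at h
  obtain ⟨a, ha, rfl⟩ := inS_Ns h.1
  exact ⟨a, mem_N1.2 ⟨ha, Vb.ext (by rw [val_m]; exact h.2)⟩, rfl⟩

def hU : List Wd := [[],
  [(nat_lit 1, cone)],
  [(nat_lit 1, nat_lit 0x7da001200400ecc080e3a1ed0100089b37b4800656c69acf079137915a88d14e18820), (nat_lit 1, cone)]]

def hR : List (ℕ × Wd) := [(nat_lit 0, []), (nat_lit 0, [(nat_lit 1, cone), (nat_lit 1, cone)]),
  (nat_lit 0, [(nat_lit 1, nat_lit 0x4040049f6e33dad4b200010080002c75b1d9582340ab09b40a5912f39a8c2de2e), (nat_lit 1, nat_lit 0x4040049f6e33dad4b200010080002c75b1d9582340ab09b40a5912f39a8c2de2e), (nat_lit 1, nat_lit 0x4040049f6e33dad4b200010080002c75b1d9582340ab09b40a5912f39a8c2de2e)]),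
  (nat_lit 0, [(nat_lit 1, nat_lit 0x3800400200100080040020010008004002001bdab49ca307b9ac5a928398a418820), (nat_lit 1, nat_lit 0x3800400200100080040020010008004002001bdab49ca307b9ac5a928398a418820), (nat_lit 1, nat_lit 0x38003dab1d1ed7b49b3020e3aecc004001002ba1474922b3398d85676a3cb218820)])]

def hF : List Fct := [
  ⟨nat_lit 1, nat_lit 0, cone, cone, nat_lit 1, cone, cone, nat_lit 0⟩,
  ⟨nat_lit 1, nat_lit 1, cone, cone, nat_lit 0, cone, cone, nat_lit 0⟩,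
  ⟨nat_lit 0, nat_lit 1, cone, cone, nat_lit 1, nat_lit 0x49f1ed080010e3a0086e3ecc7b4c753da10009e705bc664811423556ab0522baf1, nat_lit 0x49f3da1ed0012009b3c75100040d4bb1decc0a0eca9014909469a5edb406b896ee, nat_lit 0⟩,
  ⟨nat_lit 0, nat_lit 1, cone, cone, nat_lit 1, nat_lit 0x9b38006e3c75100d4b1ed200002b1d49f40025c60a08f56a8368acb2339894426f, nat_lit 0x40000101008049f3dae3ad4bc75ecc008b66b32130a162019e55388389d37ac9b4, nat_lit 0⟩,
  ⟨nat_lit 0, nat_lit 1, cone, cone, nat_lit 1, nat_lit 0x1edecc1000400040020018000209b3200d4b39a9273597892a2b01650a5439be08, nat_lit 0x10e3a0022006e310000849fd4b08004002082db51d1e114e51494c0bd90e230ea, nat_lit 0⟩,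
  ⟨nat_lit 0, nat_lit 1, cone, cone, nat_lit 1, nat_lit 0x9800400200100080040020010008004002001bdab49ca307b9ac5a928398a418820, nat_lit 0x9d4b200400e3a0807b449f010008c75ecc001156cb9a430780cca2a483b4642de2e, nat_lit 0⟩,
  ⟨nat_lit 1, nat_lit 1, nat_lit 0x2080026e3020b660108001000803da0400041ed68e2585e93449c70900f60aaa5a6c6, nat_lit 0x8bc04049fb660200100042000803da0028001ed904b183ab3436e71904f6028ab1969, nat_lit 1, nat_lit 0x38003dab1d1ed7b49b3020e3aecc004001002ba1474922b3398d85676a3cb218820, nat_lit 0xac6ecc800c75d4b0806e3e3a0100087b449f9b335c0298d707a42471e28516cca4aad, nat_lit 0⟩,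
  ⟨nat_lit 1, nat_lit 1, nat_lit 0xecc1ed3da010200080400100040e3a00849f31d10aced492de120d4d03122896ee, nat_lit 0x49f0200800100400086e3100002c753daecc0c67093c7468106724b5b5c4b51187, nat_lit 1, nat_lit 0x4040049f6e33dad4b200010080002c75b1d9582340ab09b40a5912f39a8c2de2e, nat_lit 0xecc1ed080010020008400b66800e3a3da20031e708bec5bad155518e6913208c40, nat_lit 0⟩,
  ⟨nat_lit 1, nat_lit 1, nat_lit 0x7da001200400ecc080e3a1ed0100089b37b4800656c69acf079137915a88d14e18820, nat_lit 0x1da001200400ecc080e3a1ed0100089b37b4800656c69acf079137915a88d14e18820, nat_lit 2, cone, cone, nat_lit 0⟩,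
  ⟨nat_lit 1, nat_lit 2, cone, cone, nat_lit 1, nat_lit 0x7da001200400ecc080e3a1ed0100089b37b4800656c69acf079137915a88d14e18820, cone, nat_lit 0⟩,
  ⟨nat_lit 0, nat_lit 2, cone, cone, nat_lit 2, nat_lit 0xfd41edecc100200c7500200149fd4bb1d04002039a950358112a514b963bd88543e13, nat_lit 0xd6b49f200400e3a3da7b4d4b0080106e3ecc1ed0d6cb4244f80cc7a12536340a746e5, nat_lit 0⟩,
  ⟨nat_lit 0, nat_lit 2, cone, cone, nat_lit 2, nat_lit 0x9f0004400040002080200b660100088001001ed75a4d9d4b07de875912861a2a10c01, nat_lit 0xb667b40400020082000043da0800201009b32a64d7d5c89c68431ed052eec10c01, nat_lit 0⟩,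
  ⟨nat_lit 0, nat_lit 2, cone, cone, nat_lit 2, nat_lit 0xa8e020040400e3a010ecc0040083dab667b49b38cacb819cf415246aa933d6ec08860, nat_lit 0xe7ac75100400e3ab1decc49f9b31edd4b7b43da052cb5182438928ace4c7b4708dcae, nat_lit 0⟩,
  ⟨nat_lit 0, nat_lit 2, cone, cone, nat_lit 2, nat_lit 0x1d90042007b4ecc9b3400b661ed001800e3a01075526258a765d70a4e4a7b62810c01, nat_lit 0x3daecc100200800002080b660040100406e341a95bb6657424348971059e13914c, nat_lit 0⟩,
  ⟨nat_lit 0, nat_lit 2, cone, cone, nat_lit 2, nat_lit 0x44049f040400e3a1edeccc75001b1d6e37b40800cacb3980c50d336a2848544f8dcae, nat_lit 0x20100400e3a008ecc004010080b667b40018d2cb799d09952ca9e48536e400c41, nat_lit 0⟩,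
  ⟨nat_lit 0, nat_lit 2, cone, cone, nat_lit 2, nat_lit 0x63cd4b4002000401ed0026e3b1d00149f10000815ab23b46a6068f4ccc442c1075cb1, nat_lit 0x7b66e37b410004000120049f1edb1dd4b0020081a69265427509af5c0c49d8088ddc5, nat_lit 0⟩,
  ⟨nat_lit 1, nat_lit 2, nat_lit 0x2080026e3020b660108001000803da0400041ed68e2585e93449c70900f60aaa5a6c6, nat_lit 0x8bc04049fb660200100042000803da0028001ed904b183ab3436e71904f6028ab1969, nat_lit 2, nat_lit 0x3d80086e3020b66100800010040200080004e3a78e25a5e12acdcb0a40d309163914c, nat_lit 0x9d4b200400e3a0807b449f010008c75ecc001156cb9a430780cca2a483b4642de2e, nat_lit 0⟩,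
  ⟨nat_lit 1, nat_lit 2, nat_lit 0x7da800400200100080040020010008004002001bdab49ca307b9ac5a928398a418820, nat_lit 0x7da800400200100080040020010008004002001bdab49ca307b9ac5a928398a418820, nat_lit 1, nat_lit 0x7daecc100800b663da0047b4008010400020001352e54392f85a2c912b35356710460, nat_lit 0xecc1ed080010020008400b66800e3a3da20031e708bec5bad155518e6913208c40, nat_lit 0⟩,
  ⟨nat_lit 0, nat_lit 2, cone, cone, nat_lit 2, nat_lit 0xad7b660100011ed7b4b1d800ecc4000049b30402c1874aae6b38927b66ba223510023, nat_lit 0x80100e3a400b66ecc0080048000107b49b39d176299eebc1246aa516550708803, nat_lit 0⟩,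
  ⟨nat_lit 1, nat_lit 2, nat_lit 0x6e1ecc1ed3da010200080400100040e3a00849f31d10aced492de120d4d03122896ee, nat_lit 0x8c749f0200800100400086e3100002c753daecc0c67093c7468106724b5b5c4b51187, nat_lit 1, nat_lit 0x4da002008b1d001e3a1ed1007b44000409b3c756bd4c59e89b4880805061cea2746e5, nat_lit 0xac62003dab1d9b3c75001002d4b6e30401edb66aa144031a21c8e59c5e1bc28e5d8c9, nat_lit 0⟩,
  ⟨nat_lit 0, nat_lit 2, cone, cone, nat_lit 2, nat_lit 0xe0dd4be3a100200010002c750080806e304080012e958340f98e57345287582551187, nat_lit 0xac62003dab1d9b3c75001002d4b6e30401edb66aa144031a21c8e59c5e1bc28e5d8c9, nat_lit 0⟩,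
  ⟨nat_lit 1, nat_lit 1, nat_lit 0x713b662006e3d4b008c758000803da02049f4002d462782f34443692690335cb628e4, nat_lit 0x8400200014007b4010e3a0043da080b66ecc6e38b2c982dc8994c32094f09ee0ad1b2, nat_lit 1, nat_lit 0x1d50100041000029b3040008001b1d3da200d4b83a8d249ec522a2b84a7046634d966, nat_lit 0x8e3100b661edb1d0089b30403da010200001e3aa14ea792488558bbd9d3345a910c20, nat_lit 0⟩]

def hD : List Der := [
  ⟨nat_lit 0, nat_lit 0, nat_lit 0, []⟩,
  ⟨nat_lit 1, nat_lit 0, nat_lit 0, []⟩,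
  ⟨nat_lit 2, nat_lit 1, nat_lit 0x49f3da1ed0012009b3c75100040d4bb1decc0a0eca9014909469a5edb406b896ee, [nat_lit 2, nat_lit 0, nat_lit 1]⟩,
  ⟨nat_lit 2, nat_lit 1, nat_lit 0x40000101008049f3dae3ad4bc75ecc008b66b32130a162019e55388389d37ac9b4, [nat_lit 2, nat_lit 0, nat_lit 1]⟩,
  ⟨nat_lit 2, nat_lit 1, nat_lit 0x10e3a0022006e310000849fd4b08004002082db51d1e114e51494c0bd90e230ea, [nat_lit 2, nat_lit 0, nat_lit 1]⟩,
  ⟨nat_lit 2, nat_lit 1, nat_lit 0x9800400200100080040020010008004002001bdab49ca307b9ac5a928398a418820, [nat_lit 2, nat_lit 0, nat_lit 1]⟩,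
  ⟨nat_lit 2, nat_lit 3, nat_lit 0x2080026e3020b660108001000803da0400041ed68e2585e93449c70900f60aaa5a6c6, [nat_lit 2, nat_lit 0, nat_lit 1]⟩,
  ⟨nat_lit 2, nat_lit 2, nat_lit 0xecc1ed3da010200080400100040e3a00849f31d10aced492de120d4d03122896ee, [nat_lit 2, nat_lit 0, nat_lit 1]⟩,
  ⟨nat_lit 0, nat_lit 0, nat_lit 0, []⟩,
  ⟨nat_lit 1, nat_lit 8, nat_lit 0, []⟩,
  ⟨nat_lit 2, nat_lit 1, cone, [nat_lit 10, nat_lit 5, nat_lit 6, nat_lit 5, nat_lit 9]⟩,
  ⟨nat_lit 2, nat_lit 1, cone, [nat_lit 10, nat_lit 4, nat_lit 4, nat_lit 4, nat_lit 9]⟩,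
  ⟨nat_lit 2, nat_lit 1, cone, [nat_lit 10, nat_lit 3, nat_lit 6, nat_lit 5, nat_lit 4, nat_lit 9]⟩,
  ⟨nat_lit 2, nat_lit 1, cone, [nat_lit 10, nat_lit 4, nat_lit 3, nat_lit 9]⟩,
  ⟨nat_lit 2, nat_lit 1, cone, [nat_lit 10, nat_lit 3, nat_lit 5, nat_lit 4, nat_lit 9]⟩,
  ⟨nat_lit 2, nat_lit 1, cone, [nat_lit 10, nat_lit 4, nat_lit 6, nat_lit 5, nat_lit 3, nat_lit 5, nat_lit 3, nat_lit 9]⟩,
  ⟨nat_lit 2, nat_lit 3, nat_lit 0x2080026e3020b660108001000803da0400041ed68e2585e93449c70900f60aaa5a6c6, [nat_lit 10, nat_lit 6, nat_lit 9]⟩,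
  ⟨nat_lit 2, nat_lit 3, nat_lit 0x7da800400200100080040020010008004002001bdab49ca307b9ac5a928398a418820, [nat_lit 10, nat_lit 8]⟩,
  ⟨nat_lit 2, nat_lit 1, nat_lit 0x7da800400200100080040020010008004002001bdab49ca307b9ac5a928398a418820, [nat_lit 18, nat_lit 5, nat_lit 5, nat_lit 3, nat_lit 9]⟩,
  ⟨nat_lit 2, nat_lit 2, nat_lit 0x6e1ecc1ed3da010200080400100040e3a00849f31d10aced492de120d4d03122896ee, [nat_lit 10, nat_lit 3, nat_lit 7]⟩,
  ⟨nat_lit 2, nat_lit 1, nat_lit 0x6e1ecc1ed3da010200080400100040e3a00849f31d10aced492de120d4d03122896ee, [nat_lit 20, nat_lit 9]⟩,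
  ⟨nat_lit 2, nat_lit 2, nat_lit 0x713b662006e3d4b008c758000803da02049f4002d462782f34443692690335cb628e4, [nat_lit 5, nat_lit 9, nat_lit 11, nat_lit 19, nat_lit 21, nat_lit 11, nat_lit 19, nat_lit 10]⟩]

noncomputable def hY : Sys where
  inA := inN1
  okD g c := bd (Nat.beq g (nat_lit 1)) (okD c)
  alf _ c := alf c
  U := hU
  R := hR
  F := nthG hF ⟨0, 0, 0, 0, 0, 0, 0, 0⟩

theorem hY_chk : allN 22 (hY.chkAt (nthG hD ⟨0, 0, 0, []⟩)) = true := by decide +kernel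

def PH : ℕ := nat_lit 0x742a4009810f099590b6602082402f498b4082402f401ed0401ed034200f09959034200f3da100c24a60b66020498b40742a408bc120400a4f34349009810f3434908254b0498b408254b0400a4f09810fb66020742a40099590

theorem PH_zero : trT PH 0 = trio0 := by
  rw [trio0_eq, trT, show tr1 PH 0 = oc1 by decide +kernel, show tr2 PH 0 = oc2 by decide +kernel]

def PHc : List ℕ := [nat_lit 0xd00e00c00b00a006008004009003007005002001000, nat_lit 0xe00b00900d00700c00500a006008004003002001000, nat_lit 0xe00c00d00900a00b008007006005002001004003000, nat_lit 0xe00d00a00b00c007008009004005006003002000001, nat_lit 0xe00d00c00b00800900a005006007003004001002000, nat_lit 0xe00d00c00b00a009008007006005004003002001000]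

theorem PHc_ok : allL (cone :: gN) (fun c => anyL PHc fun C => allN 15 (closT PH 15 c C)) = true := by
  decide +kernel

def hS1 : List ℕ := [nat_lit 2, nat_lit 3, nat_lit 4, nat_lit 5]
def hG1 : List ℕ := [nat_lit 0x49f1ed080010e3a0086e3ecc7b4c753da10009e705bc664811423556ab0522baf1, nat_lit 0x9b38006e3c75100d4b1ed200002b1d49f40025c60a08f56a8368acb2339894426f, nat_lit 0x1edecc1000400040020018000209b3200d4b39a9273597892a2b01650a5439be08, nat_lit 0x9800400200100080040020010008004002001bdab49ca307b9ac5a928398a418820]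
def hP1 : List ℕ := [nat_lit 0x9e705bc664811423556ab0522baf1, nat_lit 0x25c60a08f56a8368acb2339894426f, nat_lit 0x39a9273597892a2b01650a5439be08, nat_lit 0xbdab49ca307b9ac5a928398a418820]
def hR1 : List (ℕ × List (List ℕ)) := [(cone, [[nat_lit 2], [nat_lit 4, nat_lit 7], [nat_lit 7], [nat_lit 3, nat_lit 7]]), (nat_lit 0x16e33da0100020089b31000401ed08080060d106bc9491e771141570551b2cc9, [[nat_lit 22], [nat_lit 5, nat_lit 6, nat_lit 4, nat_lit 22], [nat_lit 5, nat_lit 4, nat_lit 6, nat_lit 22], [nat_lit 6, nat_lit 22]]), (nat_lit 0x1200400ecc080e3a1ed0100089b37b4800656c69acf079137915a88d14e18820, [[nat_lit 8], [nat_lit 9], [nat_lit 6, nat_lit 8], [nat_lit 6, nat_lit 9]])]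
def hQ1 : List ℕ := [nat_lit 0xbdab49ca307b9ac5a928398a418820, nat_lit 0x60d106bc9491e771141570551b2cc9, nat_lit 0x656c69acf079137915a88d14e18820]
def hC1 : ℕ := nat_lit 0x630100610100620100c10200430200c302001201008102002000001301001101008202004202001000000000
theorem hS1_ok : allL hS1 (hY.isS 22 1) = true ∧ (hG1 = hS1.map fun i => (hY.F i).m) ∧
    (hP1 = hS1.map fun i => cP (hY.F i).m) ∧ (hQ1 = hR1.map fun r => cP (cinv r.1)) := by
  decide +kernel
theorem hR1_ok : allL hR1 (hY.repT 22 3 1) = true := by decide +kernel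
theorem hC1_ok : allN 15 (covT PH 15 hP1 hQ1 (nat_lit 0xbdab49ca307b9ac5a928398a418820) hC1) = true := by
  decide +kernel
def hK1L0 : Lev := ⟨nat_lit 0, nat_lit 0xffffff, (.node (nat_lit 12) (.node (nat_lit 6) (.node (nat_lit 3) (.node (nat_lit 1) (.leaf (nat_lit 0xbdab49ca307b9ac5a928398a418820)) (.node (nat_lit 2) (.leaf (nat_lit 0x2d5767a6f09c4cca1da8549c410403)) (.leaf (nat_lit 0xbd566224ac546d0921a79d1cf10023)))) (.node (nat_lit 4) (.leaf (nat_lit 0xba9e894dd5a1609658ed3122b00c22)) (.node (nat_lit 5) (.leaf (nat_lit 0x6c14cb928e2d4e198df112240326cb)) (.leaf (nat_lit 0xa64d2544760e8f322ca82c13746e5))))) (.node (nat_lit 9) (.node (nat_lit 7) (.leaf (nat_lit 0x904b183ab3436e71904f6028ab1969)) (.node (nat_lit 8) (.leaf (nat_lit 0x54ac989985b9161a8e8e034e27ce08)) (.leaf (nat_lit 0x82db51d1e114e51494c0bd90e230ea)))) (.node (nat_lit 10) (.leaf (nat_lit 0x805d7b46695a0b21d406a09ed510ec)) (.node (nat_lit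 11) (.leaf (nat_lit 0x39a9273597892a2b01650a5439be08)) (.leaf (nat_lit 0x589d7514cc3da2803c2498d306d654)))))) (.node (nat_lit 18) (.node (nat_lit 15) (.node (nat_lit 13) (.leaf (nat_lit 0x99a958b50e2be40485771da0262887)) (.node (nat_lit 14) (.leaf (nat_lit 0x9944148e06b200d74aebac5f451c8c)) (.leaf (nat_lit 0x9e705bc664811423556ab0522baf1)))) (.node (nat_lit 16) (.leaf (nat_lit 0x3d2c91ad42030d7696a1748917a213)) (.node (nat_lit 17) (.leaf (nat_lit 0x5b2131a2c0125f155c8129ccea3655)) (.leaf (nat_lit 0x1daad7c81340a8a31d3022c2c895d7))))) (.node (nat_lit 21) (.node (nat_lit 19) (.leaf (nat_lit 0x7dc433026bb20352c9c9a460d3b08a)) (.node (nat_lit 20) (.leaf (nat_lit 0xab20f022811ca6e3c482ba9a55a4d6)) (.leaf (nat_lit 0x25c60a08f56a8368acb2339894426f)))) (.node (nat_lit 22) (.leaf (nat_lit 0x33802506c43a470bbe2c99568a36b2)) (.node (nat_lit 23) (.leaf (nat_lit 0x6022e6dcf2aa8a60a474588968226f)) (.leaf (nat_lit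 0x352622c2a60ad3922a78506f8dcae)))))))⟩
def hK1C0 : LevCert := ⟨hK1L0,
    [(nat_lit 14, nat_lit 0), (nat_lit 20, nat_lit 1), (nat_lit 10, nat_lit 2), (nat_lit 2, nat_lit 0), (nat_lit 6, nat_lit 1), (nat_lit 19, nat_lit 2), (nat_lit 12, nat_lit 0), (nat_lit 21, nat_lit 2), (nat_lit 9, nat_lit 0), (nat_lit 5, nat_lit 2), (nat_lit 18, nat_lit 1), (nat_lit 16, nat_lit 0), (nat_lit 7, nat_lit 1), (nat_lit 22, nat_lit 2), (nat_lit 1, nat_lit 1), (nat_lit 3, nat_lit 2), (nat_lit 17, nat_lit 2), (nat_lit 13, nat_lit 2), (nat_lit 15, nat_lit 0), (nat_lit 4, nat_lit 1), (nat_lit 8, nat_lit 2), (nat_lit 23, nat_lit 2), (nat_lit 11, nat_lit 2)],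
    [[nat_lit 4, nat_lit 0, nat_lit 2, nat_lit 2, nat_lit 2, nat_lit 0, nat_lit 2, nat_lit 0, nat_lit 0], [nat_lit 2, nat_lit 6, nat_lit 6, nat_lit 4, nat_lit 2, nat_lit 8, nat_lit 8, nat_lit 4, nat_lit 2]],
    [nat_lit 0x74087a28b59458b9d9ed322e918440, nat_lit 0x729e86cef4ac60662cf2490b610460]⟩
def hK1L1 : Lev := ⟨nat_lit 1, nat_lit 14, (.node (nat_lit 2) (.leaf (nat_lit 0xbdab49ca307b9ac5a928398a418820)) (.node (nat_lit 3) (.leaf (nat_lit 0x74087a28b59458b9d9ed322e918440)) (.leaf (nat_lit 0x8da4d651c7216a85ccca7a6f008860))))⟩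
def hK1C1 : LevCert := ⟨hK1L1,
    [(nat_lit 2, nat_lit 0), (nat_lit 3, nat_lit 1)],
    [[nat_lit 0, nat_lit 0, nat_lit 2, nat_lit 0, nat_lit 2, nat_lit 0, nat_lit 2, nat_lit 2, nat_lit 0, nat_lit 2, nat_lit 2, nat_lit 2, nat_lit 2], [nat_lit 2, nat_lit 4, nat_lit 4, nat_lit 2, nat_lit 4, nat_lit 2, nat_lit 4, nat_lit 4, nat_lit 4, nat_lit 2, nat_lit 4, nat_lit 4, nat_lit 4, nat_lit 4, nat_lit 4, nat_lit 2], [nat_lit 6, nat_lit 4, nat_lit 4, nat_lit 4]],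
    [nat_lit 0xb920f4a1cbb466d5558691cb410c20, nat_lit 0x71a8d556ec216485bd2785a3310c20, nat_lit 0x2dab225227539a84bd6c81af310c20]⟩
def hK1L2 : Lev := ⟨nat_lit 4, nat_lit 0x7dbfd0, (.node (nat_lit 13) (.node (nat_lit 9) (.node (nat_lit 7) (.node (nat_lit 6) (.leaf (nat_lit 0xbdab49ca307b9ac5a928398a418820)) (.leaf (nat_lit 0x89df3ac2eda150655992591c918820))) (.node (nat_lit 8) (.leaf (nat_lit 0x8a6b47cae8995aa332d022dc718820)) (.leaf (nat_lit 0x8a5b4648aa3dea8b3cc482dd310c20)))) (.node (nat_lit 11) (.node (nat_lit 10) (.leaf (nat_lit 0xba91094e346b9e63d8955b0a918820)) (.leaf (nat_lit 0x2d9b27d1c89c6a75913061aea18820))) (.node (nat_lit 12) (.leaf (nat_lit 0x2a9134c22bb39f5234e6a32f210c20)) (.leaf (nat_lit 0x2c93641a2f9b964a9db0652ea10c20))))) (.node (nat_lit 19) (.node (nat_lit 16) (.node (nat_lit 15) (.leaf (nat_lit 0x2ccea5b1c9b448d7d506a42f218820)) (.leaf (nat_lit 0x71a8d556ec216485bd2785a3310c20)))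 (.node (nat_lit 18) (.leaf (nat_lit 0x2c976399c45452f6a2ac852f318820)) (.leaf (nat_lit 0x8cd87690b5a5d56419f25c1c910c20)))) (.node (nat_lit 21) (.node (nat_lit 20) (.leaf (nat_lit 0x2dab225227539a84bd6c81af310c20)) (.leaf (nat_lit 0x74d8449cab35d527d116ac22d18820))) (.node (nat_lit 22) (.leaf (nat_lit 0xbc08aa31d26c4f6799155cca910c20)) (.leaf (nat_lit 0xb920f4a1cbb466d5558691cb410c20))))))⟩
def hK1C2 : LevCert := ⟨hK1L2,
    [(nat_lit 22, nat_lit 0), (nat_lit 15, nat_lit 1), (nat_lit 19, nat_lit 2), (nat_lit 6, nat_lit 1), (nat_lit 20, nat_lit 0), (nat_lit 10, nat_lit 1), (nat_lit 13, nat_lit 0), (nat_lit 8, nat_lit 0), (nat_lit 21, nat_lit 1), (nat_lit 18, nat_lit 2), (nat_lit 11, nat_lit 0), (nat_lit 12, nat_lit 0), (nat_lit 7, nat_lit 0), (nat_lit 16, nat_lit 0), (nat_lit 9, nat_lit 2)],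
    [[nat_lit 2, nat_lit 0, nat_lit 4, nat_lit 2, nat_lit 2, nat_lit 0], [nat_lit 4, nat_lit 4, nat_lit 2, nat_lit 6, nat_lit 2, nat_lit 4, nat_lit 4, nat_lit 2, nat_lit 2]],
    [nat_lit 0x71a4d7d4a89de8c4a9703da2418820, nat_lit 0x2d6c99ae30438ca9328f3b6e410c20]⟩
def hK1L3 : Lev := ⟨nat_lit 5, nat_lit 0x824020, (.node (nat_lit 17) (.node (nat_lit 14) (.leaf (nat_lit 0xbdab49ca307b9ac5a928398a418820)) (.leaf (nat_lit 0x7356645aef9952aa32503d62410c20))) (.node (nat_lit 23) (.leaf (nat_lit 0x71a4d7d4a89de8c4a9703da2418820)) (.leaf (nat_lit 0x2d6c99ae30438ca9328f3b6e410c20))))⟩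
def hK1C3 : LevCert := ⟨hK1L3,
    [(nat_lit 17, nat_lit 0), (nat_lit 23, nat_lit 1), (nat_lit 14, nat_lit 0)],
    [[nat_lit 2, nat_lit 2, nat_lit 0, nat_lit 2, nat_lit 0, nat_lit 2, nat_lit 2]],
    [nat_lit 0xbd136819d37c56a6b2a83c8a410c20]⟩
def hK1L4 : Lev := ⟨nat_lit 2, nat_lit 12, (.node (nat_lit 3) (.leaf (nat_lit 0xbdab49ca307b9ac5a928398a418820)) (.leaf (nat_lit 0xbd136819d37c56a6b2a83c8a410c20)))⟩
def hK1C4 : LevCert := ⟨hK1L4,
    [(nat_lit 3, nat_lit 0)],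
    [],
    []⟩
def hK1 : List LevCert := [hK1C0, hK1C1, hK1C2, hK1C3, hK1C4]
def hK1L : List Lev := [hK1L0, hK1L1, hK1L2, hK1L3, hK1L4]
theorem le_cardH1 {S : Subgroup AG} (h : ∀ c ∈ hG1, InS S c) : 4718592 ≤ Nat.card S :=
  (show 4718592 = chainCard 24 (hK1.map LevCert.L) * 2 ^ 9 by decide +kernel).le.trans
    (le_card_gens h (by decide +kernel) (M := nat_lit 0xc3aeceb0dd6b6b400993a1f4b8c) (Mi := nat_lit 0x9ca4154935112415859633b4208800400200)
      (W := [([nat_lit 3, nat_lit 2, nat_lit 1], nat_lit 4, []), ([nat_lit 3, nat_lit 2, nat_lit 1], nat_lit 4, [nat_lit 0]), ([nat_lit 3, nat_lit 2, nat_lit 1], nat_lit 4, [nat_lit 1]), ([nat_lit 3], nat_lit 1, []), ([nat_lit 3], nat_lit 1, [nat_lit 0]), ([nat_lit 3], nat_lit 1, [nat_lit 2]), ([nat_lit 3], nat_lit 1, [nat_lit 0, nat_lit 0]), ([nat_lit 3], nat_lit 1, [nat_lit 0, nat_lit 0, nat_lit 0]), ([nat_lit 3], nat_lit 1, [nat_lit 1, nat_lit 0, nat_lit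 0])]) (by decide +kernel) (by decide +kernel))

def hS2 : List ℕ := [nat_lit 10, nat_lit 11, nat_lit 12, nat_lit 13, nat_lit 14, nat_lit 15, nat_lit 18, nat_lit 20]
def hG2 : List ℕ := [nat_lit 0xfd41edecc100200c7500200149fd4bb1d04002039a950358112a514b963bd88543e13, nat_lit 0x9f0004400040002080200b660100088001001ed75a4d9d4b07de875912861a2a10c01, nat_lit 0xa8e020040400e3a010ecc0040083dab667b49b38cacb819cf415246aa933d6ec08860, nat_lit 0x1d90042007b4ecc9b3400b661ed001800e3a01075526258a765d70a4e4a7b62810c01, nat_lit 0x44049f040400e3a1edeccc75001b1d6e37b40800cacb3980c50d336a2848544f8dcae, nat_lit 0x63cd4b4002000401ed0026e3b1d00149f10000815ab23b46a6068f4ccc442c1075cb1, nat_lit 0xad7b660100011ed7b4b1d800ecc4000049b30402c1874aae6b38927b66ba223510023, nat_lit 0xe0dd4be3a100200010002c750080806e304080012e958340f98e57345287582551187]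
def hP2 : List ℕ := [nat_lit 0x39a950358112a514b963bd88543e13, nat_lit 0x75a4d9d4b07de875912861a2a10c01, nat_lit 0x8cacb819cf415246aa933d6ec08860, nat_lit 0x75526258a765d70a4e4a7b62810c01, nat_lit 0xcacb3980c50d336a2848544f8dcae, nat_lit 0x15ab23b46a6068f4ccc442c1075cb1, nat_lit 0x2c1874aae6b38927b66ba223510023, nat_lit 0x12e958340f98e57345287582551187]
def hR2 : List (ℕ × List (List ℕ)) := [(cone, [[nat_lit 10], [nat_lit 19, nat_lit 10], [nat_lit 17], [nat_lit 11, nat_lit 19, nat_lit 10]])]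
def hQ2 : List ℕ := [nat_lit 0xbdab49ca307b9ac5a928398a418820]
def hC2 : ℕ := nat_lit 0x640200e70300d10400910300d80400670200b80400510400080100980300570400540400a405005804000000
theorem hS2_ok : allL hS2 (hY.isS 22 2) = true ∧ (hG2 = hS2.map fun i => (hY.F i).m) ∧
    (hP2 = hS2.map fun i => cP (hY.F i).m) ∧ (hQ2 = hR2.map fun r => cP (cinv r.1)) := by
  decide +kernel
theorem hR2_ok : allL hR2 (hY.repT 22 3 2) = true := by decide +kernel
theorem hC2_ok : allN 15 (covT PH 15 hP2 hQ2 (nat_lit 0xbdab49ca307b9ac5a928398a418820) hC2) = true := by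
  decide +kernel
def hK2L0 : Lev := ⟨nat_lit 0, nat_lit 0xffffff, (.node (nat_lit 12) (.node (nat_lit 6) (.node (nat_lit 3) (.node (nat_lit 1) (.leaf (nat_lit 0xbdab49ca307b9ac5a928398a418820)) (.node (nat_lit 2) (.leaf (nat_lit 0x75a4d9d4b07de875912861a2a10c01)) (.leaf (nat_lit 0x2c1874aae6b38927b66ba223510023)))) (.node (nat_lit 4) (.leaf (nat_lit 0x2d6cb81aef4452aa11b3649c700c41)) (.node (nat_lit 5) (.leaf (nat_lit 0x42e558d1e5bcda33052e15a0023147)) (.leaf (nat_lit 0x15ab23b46a6068f4ccc442c1075cb1))))) (.node (nat_lit 9) (.node (nat_lit 7) (.leaf (nat_lit 0x388b7ab994692361ac32481467cd10)) (.node (nat_lit 8) (.leaf (nat_lit 0x7b4d6bae0e2a123a869104a62230ea)) (.leaf (nat_lit 0x634c90d9421916593aa0bd0f183d13)))) (.node (nat_lit 10) (.leaf (nat_lit 0x206375b8f6328ad14809a8d947ce08)) (.node (nat_lit 11) (.leaf (nat_lit 0x551762989789d21a81ae149837a270)) (.leaf (nat_lit 0xa8ef1415b09c9c70284f2068c49acb))))))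 (.node (nat_lit 18) (.node (nat_lit 15) (.node (nat_lit 13) (.leaf (nat_lit 0x834c9bda717216090ea50d1e261c8a)) (.node (nat_lit 14) (.leaf (nat_lit 0x3b822b0d464b0142caebac48d84de8)) (.leaf (nat_lit 0x1da5565044381af4ccca42c30bba25)))) (.node (nat_lit 16) (.leaf (nat_lit 0x7a6b40ca62021a7b316351a0471637)) (.node (nat_lit 17) (.leaf (nat_lit 0x619b20d0e0192a54dd627595143e13)) (.leaf (nat_lit 0xcacb3980c50d336a2848544f8dcae))))) (.node (nat_lit 21) (.node (nat_lit 19) (.leaf (nat_lit 0x65c2268152a1c668a4b5b388b4426f)) (.node (nat_lit 20) (.leaf (nat_lit 0x39a950358112a514b963bd88543e13)) (.leaf (nat_lit 0x9b860a05f26a04b2a6f5b4606628e4)))) (.node (nat_lit 22) (.leaf (nat_lit 0x7c401a8e146a05672ef2496663a88c)) (.node (nat_lit 23) (.leaf (nat_lit 0x500ae5dd96312341d429908ed7ce08)) (.leaf (nat_lit 0x56cb6182720933a21aa8486f2ba37)))))))⟩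
def hK2C0 : LevCert := ⟨hK2L0,
    [(nat_lit 19, nat_lit 0), (nat_lit 1, nat_lit 1), (nat_lit 17, nat_lit 4), (nat_lit 5, nat_lit 5), (nat_lit 2, nat_lit 6), (nat_lit 8, nat_lit 2), (nat_lit 10, nat_lit 3), (nat_lit 12, nat_lit 4), (nat_lit 9, nat_lit 6), (nat_lit 15, nat_lit 7), (nat_lit 16, nat_lit 0), (nat_lit 3, nat_lit 2), (nat_lit 23, nat_lit 4), (nat_lit 14, nat_lit 5), (nat_lit 4, nat_lit 0), (nat_lit 7, nat_lit 5), (nat_lit 6, nat_lit 6), (nat_lit 18, nat_lit 6), (nat_lit 21, nat_lit 6), (nat_lit 11, nat_lit 0), (nat_lit 13, nat_lit 2), (nat_lit 22, nat_lit 6), (nat_lit 20, nat_lit 6)],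
    [[nat_lit 0, nat_lit 2, nat_lit 0, nat_lit 4], [nat_lit 16, nat_lit 16, nat_lit 6, nat_lit 4, nat_lit 12, nat_lit 2, nat_lit 14]],
    [nat_lit 0xbd6cb998a87b92ca1db054a2408860, nat_lit 0x828b7a39f26ce296589559d0618440]⟩
def hK2L1 : Lev := ⟨nat_lit 1, nat_lit 14, (.node (nat_lit 2) (.leaf (nat_lit 0xbdab49ca307b9ac5a928398a418820)) (.node (nat_lit 3) (.leaf (nat_lit 0x828b7a39f26ce296589559d0618440)) (.leaf (nat_lit 0xbd6cb998a87b92ca1db054a2408860))))⟩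
def hK2C1 : LevCert := ⟨hK2L1,
    [(nat_lit 3, nat_lit 0), (nat_lit 2, nat_lit 1)],
    [[nat_lit 2, nat_lit 2], [nat_lit 2, nat_lit 4, nat_lit 2, nat_lit 4, nat_lit 4]],
    [nat_lit 0x95910bcdae8d1e44a8c562ea718820, nat_lit 0x544d642c93831322d1cf6dcf510c20]⟩
def hK2L2 : Lev := ⟨nat_lit 4, nat_lit 0xfffff0, (.node (nat_lit 14) (.node (nat_lit 9) (.node (nat_lit 6) (.node (nat_lit 5) (.leaf (nat_lit 0xbdab49ca307b9ac5a928398a418820)) (.leaf (nat_lit 0x53d36a9992a1d7743a0d8cc8510c20))) (.node (nat_lit 7) (.leaf (nat_lit 0x43295736172be493d9513126b18820)) (.node (nat_lit 8) (.leaf (nat_lit 0x9d8ae95df46c227329752250c18820)) (.leaf (nat_lit 0xa24b13b9aa656e834ec482e4f18820))))) (.node (nat_lit 11) (.node (nat_lit 10) (.leaf (nat_lit 0x81e4d8d505bce896588e329eb18820)) (.leaf (nat_lit 0x89a959b6f07964749168659ca18820))) (.node (nat_lit 12) (.leaf (nat_lit 0x7326f6a0b595e06258f45aa2918820)) (.node (nat_lit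 13) (.leaf (nat_lit 0x95910bcdae8d1e44a8c562ea718820)) (.leaf (nat_lit 0x444ec5aa164cc8dbd0a6ab9f210c20)))))) (.node (nat_lit 19) (.node (nat_lit 16) (.node (nat_lit 15) (.leaf (nat_lit 0x535762a4f7710d3ac2917c98810c20)) (.leaf (nat_lit 0x5c5f35212c25a15752e7914cd10c20))) (.node (nat_lit 17) (.leaf (nat_lit 0x4b637514c43d9c8a424c9d56f10c20)) (.node (nat_lit 18) (.leaf (nat_lit 0x544d642c93831322d1cf6dcf510c20)) (.leaf (nat_lit 0xb154ca112da98e88bef28397310c20))))) (.node (nat_lit 21) (.node (nat_lit 20) (.leaf (nat_lit 0x9b569219e7522ce946acbd20510c20)) (.leaf (nat_lit 0xb554481ccf42d856c6537513710c20))) (.node (nat_lit 22) (.leaf (nat_lit 0x7248aa1ef56c58fb4d72418b018820)) (.node (nat_lit 23) (.leaf (nat_lit 0xa12f1796a89c9cb3d9904a9a618820)) (.leaf (nat_lit 0x25ec64255381d6d754af9459410c20)))))))⟩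
def hK2C2 : LevCert := ⟨hK2L2,
    [(nat_lit 12, nat_lit 0), (nat_lit 17, nat_lit 1), (nat_lit 7, nat_lit 0), (nat_lit 14, nat_lit 1), (nat_lit 15, nat_lit 0), (nat_lit 22, nat_lit 1), (nat_lit 5, nat_lit 1), (nat_lit 16, nat_lit 0), (nat_lit 9, nat_lit 1), (nat_lit 13, nat_lit 0), (nat_lit 8, nat_lit 1), (nat_lit 20, nat_lit 1), (nat_lit 11, nat_lit 1), (nat_lit 21, nat_lit 0), (nat_lit 19, nat_lit 1), (nat_lit 10, nat_lit 1), (nat_lit 6, nat_lit 0), (nat_lit 18, nat_lit 1), (nat_lit 23, nat_lit 1)],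
    [[nat_lit 2, nat_lit 2, nat_lit 2, nat_lit 2, nat_lit 2, nat_lit 0, nat_lit 2, nat_lit 2, nat_lit 0, nat_lit 2, nat_lit 0], [nat_lit 4, nat_lit 2, nat_lit 4, nat_lit 2, nat_lit 2, nat_lit 4, nat_lit 2, nat_lit 4, nat_lit 4]],
    [nat_lit 0xa19f3bc2ae8c9075b2c5525a418820, nat_lit 0x7356645aef9952aa32503d62410c20]⟩
def hK2L3 : Lev := ⟨nat_lit 2, nat_lit 12, (.node (nat_lit 3) (.leaf (nat_lit 0xbdab49ca307b9ac5a928398a418820)) (.leaf (nat_lit 0x7356645aef9952aa32503d62410c20)))⟩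
def hK2C3 : LevCert := ⟨hK2L3,
    [(nat_lit 3, nat_lit 1)],
    [[nat_lit 2, nat_lit 0, nat_lit 0, nat_lit 2, nat_lit 2, nat_lit 2, nat_lit 2, nat_lit 0, nat_lit 0, nat_lit 2, nat_lit 0], [nat_lit 4, nat_lit 4, nat_lit 2, nat_lit 2, nat_lit 4, nat_lit 4, nat_lit 4, nat_lit 2, nat_lit 2, nat_lit 2, nat_lit 4, nat_lit 2], [nat_lit 6, nat_lit 6, nat_lit 4, nat_lit 4, nat_lit 4, nat_lit 4, nat_lit 6, nat_lit 6]],
    [nat_lit 0x94dd1b5e89354ac42a0b3bda418820, nat_lit 0x2a695835d34464c32acf3aee418820, nat_lit 0x926088bda5bd267b316e51aa418820]⟩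
def hK2L4 : Lev := ⟨nat_lit 5, nat_lit 0xffeb60, (.node (nat_lit 16) (.node (nat_lit 11) (.node (nat_lit 8) (.node (nat_lit 6) (.leaf (nat_lit 0xbdab49ca307b9ac5a928398a418820)) (.leaf (nat_lit 0x43ab2b35e65ce878b2e95160418820))) (.node (nat_lit 9) (.leaf (nat_lit 0xa19f3bc2ae8c9075b2c5525a418820)) (.leaf (nat_lit 0x7c68d4c90b342a7730b655e6418820)))) (.node (nat_lit 14) (.node (nat_lit 13) (.leaf (nat_lit 0x85e55352764bda72b1cb5450418820)) (.leaf (nat_lit 0x94dd1b5e89354ac42a0b3bda418820))) (.node (nat_lit 15) (.leaf (nat_lit 0x721696da34a94c77b21254ee418820)) (.leaf (nat_lit 0x6da6f722572d6074b0d152e8418820))))) (.node (nat_lit 20) (.node (nat_lit 18) (.node (nat_lit 17) (.leaf (nat_lit 0x926088bda5bd267b316e51aa418820)) (.leaf (nat_lit 0xbc12ba18ad946c79b11553dc418820))) (.node (nat_lit 19) (.leaf (nat_lit 0x6c22e496b65d2ec7aa663a24418820)) (.leaf (nat_lit 0xaad102ce91735e73313755a4418820)))) (.node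 (nat_lit 22) (.node (nat_lit 21) (.leaf (nat_lit 0x3522585d687a5c7ab1b354ac418820)) (.leaf (nat_lit 0x7acae6de759222a49ed461a0418820))) (.node (nat_lit 23) (.leaf (nat_lit 0x995b45d609b2247bb226539e418820)) (.leaf (nat_lit 0x2a695835d34464c32acf3aee418820))))))⟩
def hK2C4 : LevCert := ⟨hK2L4,
    [(nat_lit 13, nat_lit 0), (nat_lit 23, nat_lit 1), (nat_lit 16, nat_lit 2), (nat_lit 18, nat_lit 1), (nat_lit 17, nat_lit 2), (nat_lit 15, nat_lit 2), (nat_lit 9, nat_lit 0), (nat_lit 19, nat_lit 1), (nat_lit 21, nat_lit 2), (nat_lit 20, nat_lit 0), (nat_lit 14, nat_lit 1), (nat_lit 6, nat_lit 0), (nat_lit 8, nat_lit 1), (nat_lit 22, nat_lit 1), (nat_lit 11, nat_lit 1)],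
    [[nat_lit 0, nat_lit 2, nat_lit 4, nat_lit 0, nat_lit 2, nat_lit 0, nat_lit 2, nat_lit 2]],
    [nat_lit 0x8bcd6925d5a5d674326d540a418820]⟩
def hK2L5 : Lev := ⟨nat_lit 6, nat_lit 0x210040, (.node (nat_lit 16) (.leaf (nat_lit 0xbdab49ca307b9ac5a928398a418820)) (.node (nat_lit 21) (.leaf (nat_lit 0x7520f4cee6b450a69e4b654a418820)) (.leaf (nat_lit 0x8bcd6925d5a5d674326d540a418820))))⟩
def hK2C5 : LevCert := ⟨hK2L5,
    [(nat_lit 21, nat_lit 0), (nat_lit 16, nat_lit 0)],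
    [],
    []⟩
def hK2 : List LevCert := [hK2C0, hK2C1, hK2C2, hK2C3, hK2C4, hK2C5]
def hK2L : List Lev := [hK2L0, hK2L1, hK2L2, hK2L3, hK2L4, hK2L5]
theorem le_cardH2 {S : Subgroup AG} (h : ∀ c ∈ hG2, InS S c) : 17694720 ≤ Nat.card S :=
  (show 17694720 = chainCard 24 (hK2.map LevCert.L) * 2 ^ 7 by decide +kernel).le.trans
    (le_card_gens h (by decide +kernel) (M := nat_lit 0x9d410235a088804af0342) (Mi := nat_lit 0x20480015c12040817d23e411400200100080)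
      (W := [([nat_lit 5, nat_lit 7, nat_lit 7], nat_lit 6, []), ([nat_lit 7, nat_lit 4, nat_lit 7], nat_lit 6, []), ([nat_lit 7, nat_lit 4, nat_lit 7], nat_lit 6, [nat_lit 0]), ([nat_lit 7, nat_lit 4, nat_lit 7], nat_lit 6, [nat_lit 3]), ([nat_lit 7, nat_lit 4, nat_lit 7], nat_lit 6, [nat_lit 5]), ([nat_lit 7, nat_lit 4, nat_lit 7], nat_lit 6, [nat_lit 6]), ([nat_lit 7, nat_lit 4, nat_lit 7], nat_lit 6, [nat_lit 5, nat_lit 0])]) (by decide +kernel) (by decide +kernel))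

end Cfsg.Agent.J4P
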