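/-
Project J4P.  From the symmetric presentation to the amalgam: certificates (generated by tools_h70/j4/pa1.py, genA.py).
-/
import Cfsg.Agent.J4P.RW
import Cfsg.Agent.J4P.Cov

set_option autoImplicit false
set_option Elab.async false
set_option maxRecDepth 100000

namespace Cfsg.Agent.J4P

open Cfsg.Agent.SGJ4 Cfsg.Agent.H14 AG Subgroup
open scoped Pointwise

def aF : List Wd := [
  [(nat_lit 1, nat_lit 0xd4b400020b6600880049f0103dac750049b315a257dc30401c45b1333986aa4aad), (nat_lit 1, nat_lit 0xd4b400020b6600880049f0103dac750049b315a257dc30401c45b1333986aa4aad), (nat_lit 1, nat_lit 0xd4b400020b6600880049f0103dac750049b315a257dc30401c45b1333986aa4aad)],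
  [(nat_lit 1, nat_lit 0xb66002e3a00149fc75008b1d2008001004002b56c081eaade96148861a6274426e), (nat_lit 1, nat_lit 0xd4b002ecc3da80020049fc75b666e3001040134c8bd42028d9279d4e9da2b82494), (nat_lit 1, nat_lit 0xb66002e3a00149fc75008b1d2008001004002b56c081eaade96148861a6274426e), (nat_lit 1, nat_lit 0xd4b002ecc3da80020049fc75b666e3001040134c8bd42028d9279d4e9da2b82494)],
  [(nat_lit 1, cone), (nat_lit 1, cone)],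
  [(nat_lit 1, nat_lit 0xd4b0081ed9b3800001c75b6602049fb1decc13ce4bb005885469d90e4c06b952ad), (nat_lit 1, nat_lit 0x80b1d49fd4be3a6e3008ecc4003dac750409a82258de6b2012234e9ab2142ddd1), (nat_lit 1, nat_lit 0xd4b0081ed9b3800001c75b6602049fb1decc13ce4bb005885469d90e4c06b952ad), (nat_lit 1, nat_lit 0x80b1d49fd4be3a6e3008ecc4003dac750409a82258de6b2012234e9ab2142ddd1)],
  [(nat_lit 1, nat_lit 0xe3a0020100801ed0084009b3001ecc3dad4b5b6133bec461902906aa1d1202c6ee), (nat_lit 1, nat_lit 0x49f0207b4ecc100e3ad4b200040c754000080c526a2c55902cfba0ad9b8703b144), (nat_lit 1, nat_lit 0xe3a0020100801ed0084009b3001ecc3dad4b5b6133bec461902906aa1d1202c6ee), (nat_lit 1, nat_lit 0x49f0207b4ecc100e3ad4b200040c754000080c526a2c55902cfba0ad9b8703b144)],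
  [(nat_lit 1, nat_lit 0xb1de3ab668003da0200010800089b300404052cb744593791d235130ad8ed18820), (nat_lit 1, nat_lit 0xb1de3ab668003da0200010800089b300404052cb744593791d235130ad8ed18820), (nat_lit 1, nat_lit 0x8eccd4b49f800c75010b660203da6e310079841b82058a0745c92eada6d61c8a), (nat_lit 1, nat_lit 0x100ecc1edb1d0100010403da0080029b3020a18ea832487b491b5d332aeae18820), (nat_lit 1, nat_lit 0x100ecc1edb1d0100010403da0080029b3020a18ea832487b491b5d332aeae18820), (nat_lit 1, nat_lit 0xc754003da0100020086e320010049f080800059106bc75a0677345322ac4e21d4c)],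
  [(nat_lit 1, nat_lit 0xb1de3ab668003da0200010800089b300404052cb744593791d235130ad8ed18820), (nat_lit 1, nat_lit 0xb1de3ab668003da0200010800089b300404052cb744593791d235130ad8ed18820), (nat_lit 1, nat_lit 0xe3ac752001000200407b4b66800ecc002010582b48c925b99b00cc4e78ec8228ec), (nat_lit 1, nat_lit 0x100ecc1edb1d0100010403da0080029b3020a18ea832487b491b5d332aeae18820), (nat_lit 1, nat_lit 0x100ecc1edb1d0100010403da0080029b3020a18ea832487b491b5d332aeae18820), (nat_lit 1, nat_lit 0xd4b1003da008004010c75800b666e30800011510f7401728e6c6aa513d4245a6c6)],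
  [(nat_lit 1, nat_lit 0xb1de3ab668003da0200010800089b300404052cb744593791d235130ad8ed18820), (nat_lit 1, nat_lit 0xb1de3ab668003da0200010800089b300404052cb744593791d235130ad8ed18820), (nat_lit 1, nat_lit 0xb1de3ab668003da0200010800089b300404052cb744593791d235130ad8ed18820), (nat_lit 1, nat_lit 0xb1de3ab668003da0200010800089b300404052cb744593791d235130ad8ed18820), (nat_lit 1, nat_lit 0xb1de3ab668003da0200010800089b300404052cb744593791d235130ad8ed18820), (nat_lit 1, nat_lit 0xb1de3ab668003da0200010800089b300404052cb744593791d235130ad8ed18820)],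
  [(nat_lit 2, cone), (nat_lit 1, nat_lit 0xb1de3ab668003da0200010800089b300404052cb744593791d235130ad8ed18820), (nat_lit 1, nat_lit 0xb1de3ab668003da0200010800089b300404052cb744593791d235130ad8ed18820), (nat_lit 1, nat_lit 0xb1de3ab668003da0200010800089b300404052cb744593791d235130ad8ed18820)],
  [(nat_lit 1, cone), (nat_lit 2, cone), (nat_lit 1, cone), (nat_lit 2, cone)],
  [(nat_lit 1, nat_lit 0x49f100c75ecce3a0200026e30400042000800d0065c5a393ab3130b7826cf39148), (nat_lit 2, nat_lit 0x3dab660024000010080401ed9b3004020b1d415b663e4723a2a984c01d12282ef5), (nat_lit 1, nat_lit 0x49f100c75ecce3a0200026e30400042000800d0065c5a393ab3130b7826cf39148), (nat_lit 2, nat_lit 0x10020100ecc0010802001ed9b3800b66b1d8468664ea725caa786c01b562425d2)],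
  [(nat_lit 1, nat_lit 0x1ed0803da49f6e3c75b660400208009b30043cd01180b28dc8e69ab6131f45412b), (nat_lit 2, nat_lit 0x43da7b49b3400010008d4bb66001e3aecc72124b41e22b16600c35baa2d99e92), (nat_lit 1, nat_lit 0x10008400040b66d4b2009b33da00200400183ed228aa4435cc02c3749d5389a83), (nat_lit 2, nat_lit 0x7b449fb1d200800d4b0409b3008c751edb6648555b8a44780e58b1d68516668d13)],
  [(nat_lit 2, nat_lit 0x6e33dab1d010040080004100ecc0200010021a15094dd43458d3d4965bc49b9401), (nat_lit 2, nat_lit 0x6e33dab1d010040080004100ecc0200010021a15094dd43458d3d4965bc49b9401), (nat_lit 2, nat_lit 0x6e33dab1d010040080004100ecc0200010021a15094dd43458d3d4965bc49b9401), (nat_lit 2, nat_lit 0x6e33dab1d010040080004100ecc0200010021a15094dd43458d3d4965bc49b9401)],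
  [(nat_lit 2, nat_lit 0x800008b660201001edb1d6e3d4b00400149fbbcb1a1d43139814012da9892b4173), (nat_lit 2, nat_lit 0xeccb664007b4b1d49fc75080010e3ad4b3da316c95041382c4873e872346cade51), (nat_lit 2, nat_lit 0x400002ecce3a3dac7549f0019b37b46e3b1db34cb4002c2246aa1dcf81453bd632), (nat_lit 2, nat_lit 0xb66ecc0801ed49fb1d004400d4b10001020029a670a9d6152150496988db7431e4)],
  [(nat_lit 2, nat_lit 0x20800081edc759b37b449fb66e3a3da0206cde7011212ad11539971c2a2a48d6), (nat_lit 2, nat_lit 0x20800081edc759b37b449fb66e3a3da0206cde7011212ad11539971c2a2a48d6), (nat_lit 2, nat_lit 0x80ecc0400028002003dab66004008100d4b99a4dbd50573e8248d710da00530e4), (nat_lit 2, nat_lit 0x3dac75b666e3400d4b001ecc200b1d8007b4400a3b0986aaae972e2da05f239213), (nat_lit 2, nat_lit 0x3dac75b666e3400d4b001ecc200b1d8007b4400a3b0986aaae972e2da05f239213),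 (nat_lit 2, nat_lit 0x6e33dab1d010040080004100ecc0200010021a15094dd43458d3d4965bc49b9401)],
  [(nat_lit 2, nat_lit 0x20800081edc759b37b449fb66e3a3da0206cde7011212ad11539971c2a2a48d6), (nat_lit 2, nat_lit 0x20800081edc759b37b449fb66e3a3da0206cde7011212ad11539971c2a2a48d6), (nat_lit 2, nat_lit 0x20000449f0209b36e3100008080400b661edab83120e8f9d8a7022ec509709192d), (nat_lit 2, nat_lit 0x3dac75b666e3400d4b001ecc200b1d8007b4400a3b0986aaae972e2da05f239213), (nat_lit 2, nat_lit 0x3dac75b666e3400d4b001ecc200b1d8007b4400a3b0986aaae972e2da05f239213), (nat_lit 2, nat_lit 0x80200ecc7b4004400010b66800008e3a6e39d4c975a05bbd63a01b11490161c8a)],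
  [(nat_lit 2, nat_lit 0x20800081edc759b37b449fb66e3a3da0206cde7011212ad11539971c2a2a48d6), (nat_lit 2, nat_lit 0x20800081edc759b37b449fb66e3a3da0206cde7011212ad11539971c2a2a48d6), (nat_lit 2, nat_lit 0x20800081edc759b37b449fb66e3a3da0206cde7011212ad11539971c2a2a48d6), (nat_lit 2, nat_lit 0x20800081edc759b37b449fb66e3a3da0206cde7011212ad11539971c2a2a48d6), (nat_lit 2, nat_lit 0x20800081edc759b37b449fb66e3a3da0206cde7011212ad11539971c2a2a48d6), (nat_lit 2, nat_lit 0x20800081edc759b37b449fb66e3a3da0206cde7011212ad11539971c2a2a48d6)],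
  [(nat_lit 3, cone), (nat_lit 2, nat_lit 0x20800081edc759b37b449fb66e3a3da0206cde7011212ad11539971c2a2a48d6), (nat_lit 2, nat_lit 0x20800081edc759b37b449fb66e3a3da0206cde7011212ad11539971c2a2a48d6), (nat_lit 2, nat_lit 0x20800081edc759b37b449fb66e3a3da0206cde7011212ad11539971c2a2a48d6)],
  [(nat_lit 2, cone), (nat_lit 3, cone), (nat_lit 2, cone), (nat_lit 3, cone)],
  [(nat_lit 2, nat_lit 0x3dab660024000010080401ed9b3004020b1d415b663e4723a2a984c01d12282ef5), (nat_lit 3, nat_lit 0x49f100c75ecce3a0200026e30400042000800d0065c5a393ab3130b7826cf39148), (nat_lit 2, nat_lit 0x3dab660024000010080401ed9b3004020b1d415b663e4723a2a984c01d12282ef5), (nat_lit 3, nat_lit 0x49f100c75ecce3a0200026e30400042000800d0065c5a393ab3130b7826cf39148)],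
  [(nat_lit 1, cone), (nat_lit 3, cone), (nat_lit 1, cone), (nat_lit 3, cone)],
  [(nat_lit 1, nat_lit 0x800004001100002ecc400e3a0080201edb66bb99469acb7c4e54015098ea490829), (nat_lit 3, nat_lit 0x800020b661001ed6e30043da008400080200bc4b438dc87da758240b6c9843082a), (nat_lit 1, nat_lit 0x9b3b1dc750010203da6e3400200ecce3ad4b2280c8a076a99626c8a909df7a3a70), (nat_lit 3, nat_lit 0x9b30100086e349fb1d080c75b66d4be3a100241e30aa60289746d912339378b0f5)],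
  [(nat_lit 3, nat_lit 0x9b3d4b1006e3e3a004010002b66080ecc7b420a835ba0d2ccc9956c00c5f7530e8), (nat_lit 3, nat_lit 0x9b37b4b1d200004e3aecc020b66040010d4b2255572cd12ca0298d800b5f7a58e8)],
  [(nat_lit 3, nat_lit 0x800020b661001ed6e30043da008400080200bc4b438dc87da758240b6c9843082a), (nat_lit 3, nat_lit 0x800004001100002ecc400e3a0080201edb66bb99469acb7c4e54015098ea490829)]]

def aP : List (List Op) := [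
  [],
  [],
  [],
  [⟨nat_lit 0, nat_lit 0, nat_lit 0⟩, ⟨nat_lit 0, nat_lit 0, nat_lit 0⟩, ⟨nat_lit 4, nat_lit 0, nat_lit 0x40ecc800b66001004002b1d9b310002000891ae5639aa2522fb4d2742eb018041⟩, ⟨nat_lit 1, nat_lit 0, nat_lit 0⟩, ⟨nat_lit 1, nat_lit 0, nat_lit 0⟩, ⟨nat_lit 0, nat_lit 0, nat_lit 0⟩, ⟨nat_lit 3, nat_lit 0, nat_lit 0⟩, ⟨nat_lit 0, nat_lit 0, nat_lit 0⟩, ⟨nat_lit 0, nat_lit 0, nat_lit 0⟩, ⟨nat_lit 4, nat_lit 0, nat_lit 0x40ecc800b66001004002b1d9b310002000891ae5639aa2522fb4d2742eb018041⟩, ⟨nat_lit 1, nat_lit 0, nat_lit 0⟩, ⟨nat_lit 1, nat_lit 0, nat_lit 0⟩, ⟨nat_lit 0, nat_lit 0, nat_lit 0⟩, ⟨nat_lit 3, nat_lit 0, nat_lit 0⟩, ⟨nat_lit 2, nat_lit 0, nat_lit 0⟩, ⟨nat_lit 1, nat_lit 0, nat_lit 0⟩],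
  [⟨nat_lit 0, nat_lit 0, nat_lit 0⟩, ⟨nat_lit 4, nat_lit 0, nat_lit 0x1ed008100200e3a0029b3400ecc0010400203be955b4963325145e692c14e18820⟩, ⟨nat_lit 1, nat_lit 0, nat_lit 0⟩, ⟨nat_lit 0, nat_lit 0, nat_lit 0⟩, ⟨nat_lit 0, nat_lit 0, nat_lit 0⟩, ⟨nat_lit 3, nat_lit 0, nat_lit 0⟩, ⟨nat_lit 0, nat_lit 0, nat_lit 0⟩, ⟨nat_lit 4, nat_lit 0, nat_lit 0x400d4b1ed001010b1de3a3da0807b49b3002b08ec829689a48d0506fa84d2895d7⟩, ⟨nat_lit 1, nat_lit 0, nat_lit 0⟩, ⟨nat_lit 0, nat_lit 0, nat_lit 0⟩, ⟨nat_lit 0, nat_lit 0, nat_lit 0⟩, ⟨nat_lit 3, nat_lit 0, nat_lit 0⟩, ⟨nat_lit 2, nat_lit 0, nat_lit 0⟩, ⟨nat_lit 4, nat_lit 0, nat_lit 0x107b4d4bc7500249f0802000400086e3800824406867593c77316d48ad0e61d44⟩, ⟨nat_lit 1, nat_lit 0, nat_lit 0⟩, ⟨nat_lit 1, nat_lit 0, nat_lit 0⟩, ⟨nat_lit 0, nat_lit 0, nat_lit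 0⟩, ⟨nat_lit 3, nat_lit 0, nat_lit 0⟩, ⟨nat_lit 4, nat_lit 0, nat_lit 0xeccb66002200c751007b449f6e3e3a040008315b5051211ae4f8cee283ac83b144⟩, ⟨nat_lit 1, nat_lit 0, nat_lit 0⟩, ⟨nat_lit 0, nat_lit 0, nat_lit 0⟩, ⟨nat_lit 0, nat_lit 0, nat_lit 0⟩, ⟨nat_lit 3, nat_lit 0, nat_lit 0⟩, ⟨nat_lit 2, nat_lit 0, nat_lit 0⟩, ⟨nat_lit 4, nat_lit 0, nat_lit 0x80200b66020400004010ecce3a3da80049f9d4b1b3a065a2e1a0249135e33b08a⟩, ⟨nat_lit 1, nat_lit 0, nat_lit 0⟩, ⟨nat_lit 1, nat_lit 0, nat_lit 0⟩, ⟨nat_lit 0, nat_lit 0, nat_lit 0⟩, ⟨nat_lit 3, nat_lit 0, nat_lit 0⟩, ⟨nat_lit 0, nat_lit 0, nat_lit 0⟩, ⟨nat_lit 0, nat_lit 0, nat_lit 0⟩, ⟨nat_lit 4, nat_lit 0, nat_lit 0x401ed4007b449fecc100c756e3200e3a00491ec909a801d56e61482ba9b19bd10⟩, ⟨nat_lit 1, nat_lit 0, nat_lit 0⟩, ⟨nat_lit 1, nat_lit 0, nat_lit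 0⟩, ⟨nat_lit 0, nat_lit 0, nat_lit 0⟩, ⟨nat_lit 3, nat_lit 0, nat_lit 0⟩, ⟨nat_lit 1, nat_lit 0, nat_lit 0⟩, ⟨nat_lit 1, nat_lit 0, nat_lit 0⟩],
  [⟨nat_lit 0, nat_lit 0, nat_lit 0⟩, ⟨nat_lit 0, nat_lit 0, nat_lit 0⟩, ⟨nat_lit 0, nat_lit 0, nat_lit 0⟩, ⟨nat_lit 0, nat_lit 0, nat_lit 0⟩, ⟨nat_lit 0, nat_lit 0, nat_lit 0⟩, ⟨nat_lit 8, nat_lit 0, nat_lit 0xb1d4000200043dab660010800089b380000255a2e41593792ed4d4d0a2cf208062⟩, ⟨nat_lit 1, nat_lit 0, nat_lit 0⟩, ⟨nat_lit 1, nat_lit 0, nat_lit 0⟩, ⟨nat_lit 0, nat_lit 0, nat_lit 0⟩, ⟨nat_lit 0, nat_lit 0, nat_lit 0⟩, ⟨nat_lit 3, nat_lit 0, nat_lit 0⟩, ⟨nat_lit 2, nat_lit 0, nat_lit 0⟩, ⟨nat_lit 7, nat_lit 0, nat_lit 0x1ed008100200e3a0029b3400ecc0010400203be955b4963325145e692c14e18820⟩, ⟨nat_lit 1, nat_lit 0, nat_lit 0⟩, ⟨nat_lit 1, nat_lit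 0, nat_lit 0⟩, ⟨nat_lit 0, nat_lit 0, nat_lit 0⟩, ⟨nat_lit 0, nat_lit 0, nat_lit 0⟩, ⟨nat_lit 3, nat_lit 0, nat_lit 0⟩, ⟨nat_lit 2, nat_lit 0, nat_lit 0⟩, ⟨nat_lit 4, nat_lit 0, nat_lit 0x3da0407b4ecc6e3e3a010d4bc75080400b1d449261ae0204ecaa32a13b5e48bae5⟩, ⟨nat_lit 1, nat_lit 0, nat_lit 0⟩, ⟨nat_lit 1, nat_lit 0, nat_lit 0⟩, ⟨nat_lit 0, nat_lit 0, nat_lit 0⟩, ⟨nat_lit 3, nat_lit 0, nat_lit 0⟩, ⟨nat_lit 0, nat_lit 0, nat_lit 0⟩, ⟨nat_lit 0, nat_lit 0, nat_lit 0⟩, ⟨nat_lit 7, nat_lit 0, nat_lit 0x89b37b4ecc49f4000806e3d4b3dae3a002791260da631216d550e0932158b8b7⟩, ⟨nat_lit 1, nat_lit 0, nat_lit 0⟩, ⟨nat_lit 1, nat_lit 0, nat_lit 0⟩, ⟨nat_lit 0, nat_lit 0, nat_lit 0⟩, ⟨nat_lit 0, nat_lit 0, nat_lit 0⟩, ⟨nat_lit 3, nat_lit 0, nat_lit 0⟩, ⟨nat_lit 2, nat_lit 0, nat_lit 0⟩, ⟨nat_lit 4, nat_lit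 0, nat_lit 0x8040e3a40049f7b4080c75d4b010eccb1d7c9760a660140caa32a33b504b962e⟩, ⟨nat_lit 1, nat_lit 0, nat_lit 0⟩, ⟨nat_lit 1, nat_lit 0, nat_lit 0⟩, ⟨nat_lit 0, nat_lit 0, nat_lit 0⟩, ⟨nat_lit 3, nat_lit 0, nat_lit 0⟩, ⟨nat_lit 4, nat_lit 0, nat_lit 0xc75080e3aecc004400d4b8000206e37b404004d667585788d3285505a3c2d61c8a⟩, ⟨nat_lit 1, nat_lit 0, nat_lit 0⟩, ⟨nat_lit 1, nat_lit 0, nat_lit 0⟩, ⟨nat_lit 0, nat_lit 0, nat_lit 0⟩, ⟨nat_lit 3, nat_lit 0, nat_lit 0⟩, ⟨nat_lit 0, nat_lit 0, nat_lit 0⟩, ⟨nat_lit 0, nat_lit 0, nat_lit 0⟩, ⟨nat_lit 4, nat_lit 0, nat_lit 0x1ed4003da0802000109b3040100b1d008c753d913ac092a29e03052d12d8375e25⟩, ⟨nat_lit 1, nat_lit 0, nat_lit 0⟩, ⟨nat_lit 1, nat_lit 0, nat_lit 0⟩, ⟨nat_lit 0, nat_lit 0, nat_lit 0⟩, ⟨nat_lit 3, nat_lit 0, nat_lit 0⟩, ⟨nat_lit 2, nat_lit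 0, nat_lit 0⟩, ⟨nat_lit 1, nat_lit 0, nat_lit 0⟩],
  [⟨nat_lit 0, nat_lit 0, nat_lit 0⟩, ⟨nat_lit 0, nat_lit 0, nat_lit 0⟩, ⟨nat_lit 0, nat_lit 0, nat_lit 0⟩, ⟨nat_lit 0, nat_lit 0, nat_lit 0⟩, ⟨nat_lit 8, nat_lit 0, nat_lit 0x80e3ab66020b1d0043da9b300100880049f9acb15390463ee148ec701a02a55b2⟩, ⟨nat_lit 1, nat_lit 0, nat_lit 0⟩, ⟨nat_lit 1, nat_lit 0, nat_lit 0⟩, ⟨nat_lit 0, nat_lit 0, nat_lit 0⟩, ⟨nat_lit 0, nat_lit 0, nat_lit 0⟩, ⟨nat_lit 3, nat_lit 0, nat_lit 0⟩, ⟨nat_lit 2, nat_lit 0, nat_lit 0⟩, ⟨nat_lit 2, nat_lit 0, nat_lit 0⟩, ⟨nat_lit 1, nat_lit 0, nat_lit 0⟩, ⟨nat_lit 0, nat_lit 0, nat_lit 0⟩, ⟨nat_lit 0, nat_lit 0, nat_lit 0⟩, ⟨nat_lit 8, nat_lit 0, nat_lit 0xb1d2000080804003da9b3e3aecc001010004555f3b208b3320e916898b4f700462⟩, ⟨nat_lit 1, nat_lit 0, nat_lit 0⟩, ⟨nat_lit 1,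 nat_lit 0, nat_lit 0⟩, ⟨nat_lit 0, nat_lit 0, nat_lit 0⟩, ⟨nat_lit 0, nat_lit 0, nat_lit 0⟩, ⟨nat_lit 3, nat_lit 0, nat_lit 0⟩, ⟨nat_lit 2, nat_lit 0, nat_lit 0⟩, ⟨nat_lit 4, nat_lit 0, nat_lit 0x3da6e30011edb66b1d0100048000089b3e3a40d872aa0ebbc8b0d81148a66a4aad⟩, ⟨nat_lit 1, nat_lit 0, nat_lit 0⟩, ⟨nat_lit 1, nat_lit 0, nat_lit 0⟩, ⟨nat_lit 0, nat_lit 0, nat_lit 0⟩, ⟨nat_lit 3, nat_lit 0, nat_lit 0⟩, ⟨nat_lit 0, nat_lit 0, nat_lit 0⟩, ⟨nat_lit 0, nat_lit 0, nat_lit 0⟩, ⟨nat_lit 7, nat_lit 0, nat_lit 0x406e37b4e3a004400002020b66200ecc08090d2b759b12d4d30bc5740290510ec⟩, ⟨nat_lit 1, nat_lit 0, nat_lit 0⟩, ⟨nat_lit 1, nat_lit 0, nat_lit 0⟩, ⟨nat_lit 0, nat_lit 0, nat_lit 0⟩, ⟨nat_lit 0, nat_lit 0, nat_lit 0⟩, ⟨nat_lit 3, nat_lit 0, nat_lit 0⟩, ⟨nat_lit 2, nat_lit 0, nat_lit 0⟩, ⟨nat_lit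 4, nat_lit 0, nat_lit 0x800b1d49fc757b46e3004ecc400b66d4b040ba82048dc6b1452650eba922d44df0⟩, ⟨nat_lit 1, nat_lit 0, nat_lit 0⟩, ⟨nat_lit 1, nat_lit 0, nat_lit 0⟩, ⟨nat_lit 0, nat_lit 0, nat_lit 0⟩, ⟨nat_lit 3, nat_lit 0, nat_lit 0⟩, ⟨nat_lit 1, nat_lit 0, nat_lit 0⟩],
  [⟨nat_lit 0, nat_lit 0, nat_lit 0⟩, ⟨nat_lit 0, nat_lit 0, nat_lit 0⟩, ⟨nat_lit 0, nat_lit 0, nat_lit 0⟩, ⟨nat_lit 0, nat_lit 0, nat_lit 0⟩, ⟨nat_lit 8, nat_lit 0, nat_lit 0x7b40040100080403da400100200e3a0806e34ba0f922d4aae63880ad15cc13b144⟩, ⟨nat_lit 1, nat_lit 0, nat_lit 0⟩, ⟨nat_lit 1, nat_lit 0, nat_lit 0⟩, ⟨nat_lit 0, nat_lit 0, nat_lit 0⟩, ⟨nat_lit 0, nat_lit 0, nat_lit 0⟩, ⟨nat_lit 3, nat_lit 0, nat_lit 0⟩, ⟨nat_lit 2, nat_lit 0, nat_lit 0⟩, ⟨nat_lit 8, nat_lit 0, nat_lit 0x2006e31edb1d7b4001100e3aecc0029b3800a8cea4b28b3349713836282517ce08⟩,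 ⟨nat_lit 1, nat_lit 0, nat_lit 0⟩, ⟨nat_lit 1, nat_lit 0, nat_lit 0⟩, ⟨nat_lit 0, nat_lit 0, nat_lit 0⟩, ⟨nat_lit 0, nat_lit 0, nat_lit 0⟩, ⟨nat_lit 3, nat_lit 0, nat_lit 0⟩, ⟨nat_lit 2, nat_lit 0, nat_lit 0⟩, ⟨nat_lit 2, nat_lit 0, nat_lit 0⟩, ⟨nat_lit 1, nat_lit 0, nat_lit 0⟩, ⟨nat_lit 0, nat_lit 0, nat_lit 0⟩, ⟨nat_lit 0, nat_lit 0, nat_lit 0⟩, ⟨nat_lit 0, nat_lit 0, nat_lit 0⟩, ⟨nat_lit 8, nat_lit 0, nat_lit 0xb66c75200040e3a002020ecc7b48001001ed282b25b6264de8711076605ca9bd10⟩, ⟨nat_lit 1, nat_lit 0, nat_lit 0⟩, ⟨nat_lit 1, nat_lit 0, nat_lit 0⟩, ⟨nat_lit 0, nat_lit 0, nat_lit 0⟩, ⟨nat_lit 0, nat_lit 0, nat_lit 0⟩, ⟨nat_lit 3, nat_lit 0, nat_lit 0⟩, ⟨nat_lit 2, nat_lit 0, nat_lit 0⟩, ⟨nat_lit 2, nat_lit 0, nat_lit 0⟩, ⟨nat_lit 1, nat_lit 0, nat_lit 0⟩, ⟨nat_lit 0, nat_lit 0, nat_lit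 0⟩, ⟨nat_lit 1, nat_lit 0, nat_lit 0⟩],
  [],
  [⟨nat_lit 0, nat_lit 0, nat_lit 0⟩, ⟨nat_lit 0, nat_lit 0, nat_lit 0⟩, ⟨nat_lit 12, nat_lit 0, nat_lit 0x8400b66004c75020080d4b49f0108009b37d8ae046620c2e45a8c33a50cad1b2⟩, ⟨nat_lit 1, nat_lit 0, nat_lit 0⟩, ⟨nat_lit 0, nat_lit 0, nat_lit 0⟩, ⟨nat_lit 0, nat_lit 0, nat_lit 0⟩, ⟨nat_lit 0, nat_lit 0, nat_lit 0⟩, ⟨nat_lit 3, nat_lit 0, nat_lit 0⟩, ⟨nat_lit 2, nat_lit 0, nat_lit 0⟩, ⟨nat_lit 2, nat_lit 0, nat_lit 0⟩, ⟨nat_lit 8, nat_lit 0, nat_lit 0x40049f002040b66100ecc0200047b42003dab05b22d0d1726a803c77989703b08a⟩, ⟨nat_lit 1, nat_lit 0, nat_lit 0⟩, ⟨nat_lit 1, nat_lit 0, nat_lit 0⟩, ⟨nat_lit 0, nat_lit 0, nat_lit 0⟩, ⟨nat_lit 0, nat_lit 0, nat_lit 0⟩, ⟨nat_lit 3, nat_lit 0, nat_lit 0⟩, ⟨nat_lit 0, nat_lit 0, nat_lit 0⟩, ⟨nat_lit 7, nat_lit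 0, nat_lit 0x400d4b200100020040eccb668007b4002008b0ab48c8c5ba5af1a00e805733b08a⟩, ⟨nat_lit 1, nat_lit 0, nat_lit 0⟩, ⟨nat_lit 1, nat_lit 0, nat_lit 0⟩, ⟨nat_lit 0, nat_lit 0, nat_lit 0⟩, ⟨nat_lit 0, nat_lit 0, nat_lit 0⟩, ⟨nat_lit 3, nat_lit 0, nat_lit 0⟩, ⟨nat_lit 0, nat_lit 0, nat_lit 0⟩, ⟨nat_lit 8, nat_lit 0, nat_lit 0xb1d008d4b6e300449f1ed020b669b3c7504053c43704f1290129d517a418db2cc9⟩, ⟨nat_lit 1, nat_lit 0, nat_lit 0⟩, ⟨nat_lit 1, nat_lit 0, nat_lit 0⟩, ⟨nat_lit 0, nat_lit 0, nat_lit 0⟩, ⟨nat_lit 0, nat_lit 0, nat_lit 0⟩, ⟨nat_lit 3, nat_lit 0, nat_lit 0⟩, ⟨nat_lit 1, nat_lit 0, nat_lit 0⟩, ⟨nat_lit 2, nat_lit 0, nat_lit 0⟩, ⟨nat_lit 4, nat_lit 0, nat_lit 0xe3a1ed020b663da004ecc0080807b480004059e25438cf9a6f225590a2acd08043⟩, ⟨nat_lit 1, nat_lit 0, nat_lit 0⟩, ⟨nat_lit 0, nat_lit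 0, nat_lit 0⟩, ⟨nat_lit 0, nat_lit 0, nat_lit 0⟩, ⟨nat_lit 3, nat_lit 0, nat_lit 0⟩, ⟨nat_lit 0, nat_lit 0, nat_lit 0⟩, ⟨nat_lit 8, nat_lit 0, nat_lit 0xb1d008d4b6e300449f1ed020b669b3c7504053c43704f1290129d517a418db2cc9⟩, ⟨nat_lit 1, nat_lit 0, nat_lit 0⟩, ⟨nat_lit 1, nat_lit 0, nat_lit 0⟩, ⟨nat_lit 0, nat_lit 0, nat_lit 0⟩, ⟨nat_lit 0, nat_lit 0, nat_lit 0⟩, ⟨nat_lit 3, nat_lit 0, nat_lit 0⟩, ⟨nat_lit 2, nat_lit 0, nat_lit 0⟩, ⟨nat_lit 4, nat_lit 0, nat_lit 0x3dab66ecc7b4b1d4000109b31ed080e3a49f414c955a043cd6170e2c15de06cab4⟩, ⟨nat_lit 1, nat_lit 0, nat_lit 0⟩, ⟨nat_lit 1, nat_lit 0, nat_lit 0⟩, ⟨nat_lit 0, nat_lit 0, nat_lit 0⟩, ⟨nat_lit 3, nat_lit 0, nat_lit 0⟩, ⟨nat_lit 0, nat_lit 0, nat_lit 0⟩, ⟨nat_lit 8, nat_lit 0, nat_lit 0x7b49b3080008020010e3a800b66ecc3da6e34926f8c17729903600ee12ac1aca8d⟩,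 ⟨nat_lit 1, nat_lit 0, nat_lit 0⟩, ⟨nat_lit 1, nat_lit 0, nat_lit 0⟩, ⟨nat_lit 0, nat_lit 0, nat_lit 0⟩, ⟨nat_lit 0, nat_lit 0, nat_lit 0⟩, ⟨nat_lit 3, nat_lit 0, nat_lit 0⟩, ⟨nat_lit 12, nat_lit 1, nat_lit 0xb66c75200040e3a002020ecc7b48001001ed282b25b6264de8711076605ca9bd10⟩, ⟨nat_lit 1, nat_lit 0, nat_lit 0⟩, ⟨nat_lit 1, nat_lit 0, nat_lit 0⟩, ⟨nat_lit 1, nat_lit 0, nat_lit 0⟩, ⟨nat_lit 0, nat_lit 0, nat_lit 0⟩, ⟨nat_lit 3, nat_lit 0, nat_lit 0⟩, ⟨nat_lit 1, nat_lit 0, nat_lit 0⟩],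
  [⟨nat_lit 0, nat_lit 0, nat_lit 0⟩, ⟨nat_lit 0, nat_lit 0, nat_lit 0⟩, ⟨nat_lit 12, nat_lit 0, nat_lit 0x41ed0010080400100026e3e3a49f080d4b71d8f941a358662251174aac505626⟩, ⟨nat_lit 1, nat_lit 0, nat_lit 0⟩, ⟨nat_lit 0, nat_lit 0, nat_lit 0⟩, ⟨nat_lit 0, nat_lit 0, nat_lit 0⟩, ⟨nat_lit 0, nat_lit 0, nat_lit 0⟩, ⟨nat_lit 3, nat_lit 0, nat_lit 0⟩, ⟨nat_lit 2, nat_lit 0, nat_lit 0⟩, ⟨nat_lit 2, nat_lit 0, nat_lit 0⟩, ⟨nat_lit 7, nat_lit 0, nat_lit 0xc750100800040010200409b3ecc2003da7b40426e6464435509bacb653c4708e8d⟩, ⟨nat_lit 1, nat_lit 0, nat_lit 0⟩, ⟨nat_lit 1, nat_lit 0, nat_lit 0⟩, ⟨nat_lit 0, nat_lit 0, nat_lit 0⟩, ⟨nat_lit 0, nat_lit 0, nat_lit 0⟩, ⟨nat_lit 3, nat_lit 0, nat_lit 0⟩, ⟨nat_lit 0, nat_lit 0, nat_lit 0⟩, ⟨nat_lit 5, nat_lit 1, nat_lit 0x49fb660043da9b3080100001ecc002020e3a095c824e8c3362b825f655c67102b2⟩,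 ⟨nat_lit 1, nat_lit 0, nat_lit 0⟩, ⟨nat_lit 1, nat_lit 0, nat_lit 0⟩, ⟨nat_lit 0, nat_lit 0, nat_lit 0⟩, ⟨nat_lit 0, nat_lit 0, nat_lit 0⟩, ⟨nat_lit 3, nat_lit 0, nat_lit 0⟩, ⟨nat_lit 0, nat_lit 0, nat_lit 0⟩, ⟨nat_lit 5, nat_lit 1, nat_lit 0x800010008eccb660200027b43da004001b1dbc1e62c5a94398a012a714c7492ec1⟩, ⟨nat_lit 1, nat_lit 0, nat_lit 0⟩, ⟨nat_lit 1, nat_lit 0, nat_lit 0⟩, ⟨nat_lit 0, nat_lit 0, nat_lit 0⟩, ⟨nat_lit 0, nat_lit 0, nat_lit 0⟩, ⟨nat_lit 3, nat_lit 0, nat_lit 0⟩, ⟨nat_lit 1, nat_lit 0, nat_lit 0⟩, ⟨nat_lit 2, nat_lit 0, nat_lit 0⟩, ⟨nat_lit 4, nat_lit 0, nat_lit 0x400001d4bb66010800ecc1ed0802006e3100b304585cc79d4747c9445a1a903831⟩, ⟨nat_lit 1, nat_lit 0, nat_lit 0⟩, ⟨nat_lit 0, nat_lit 0, nat_lit 0⟩, ⟨nat_lit 0, nat_lit 0, nat_lit 0⟩, ⟨nat_lit 3, nat_lit 0, nat_lit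 0⟩, ⟨nat_lit 0, nat_lit 0, nat_lit 0⟩, ⟨nat_lit 8, nat_lit 0, nat_lit 0x80001400ecc0027b40082001003dae3a6e39b2c66a5f5a21632015211e012c6ee⟩, ⟨nat_lit 1, nat_lit 0, nat_lit 0⟩, ⟨nat_lit 1, nat_lit 0, nat_lit 0⟩, ⟨nat_lit 0, nat_lit 0, nat_lit 0⟩, ⟨nat_lit 0, nat_lit 0, nat_lit 0⟩, ⟨nat_lit 3, nat_lit 0, nat_lit 0⟩, ⟨nat_lit 2, nat_lit 0, nat_lit 0⟩, ⟨nat_lit 4, nat_lit 0, nat_lit 0x40e3a02080049f004002d4bc75100b661ed92e370b9a2050a7b10c3626aa7ce08⟩, ⟨nat_lit 1, nat_lit 0, nat_lit 0⟩, ⟨nat_lit 1, nat_lit 0, nat_lit 0⟩, ⟨nat_lit 0, nat_lit 0, nat_lit 0⟩, ⟨nat_lit 3, nat_lit 0, nat_lit 0⟩, ⟨nat_lit 0, nat_lit 0, nat_lit 0⟩, ⟨nat_lit 8, nat_lit 0, nat_lit 0x9b3200e3a7b4d4beccb1dc756e31ed400020255691194019ed169641bd18e9be08⟩, ⟨nat_lit 1, nat_lit 0, nat_lit 0⟩, ⟨nat_lit 1, nat_lit 0, nat_lit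 0⟩, ⟨nat_lit 0, nat_lit 0, nat_lit 0⟩, ⟨nat_lit 0, nat_lit 0, nat_lit 0⟩, ⟨nat_lit 3, nat_lit 0, nat_lit 0⟩, ⟨nat_lit 12, nat_lit 1, nat_lit 0xb66c75ecc400002e3a0202001000047b4b1d280d66ae35a392a1103260ee77cd10⟩, ⟨nat_lit 1, nat_lit 0, nat_lit 0⟩, ⟨nat_lit 1, nat_lit 0, nat_lit 0⟩, ⟨nat_lit 1, nat_lit 0, nat_lit 0⟩, ⟨nat_lit 0, nat_lit 0, nat_lit 0⟩, ⟨nat_lit 3, nat_lit 0, nat_lit 0⟩, ⟨nat_lit 1, nat_lit 0, nat_lit 0⟩],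
  [⟨nat_lit 0, nat_lit 0, nat_lit 0⟩, ⟨nat_lit 0, nat_lit 0, nat_lit 0⟩, ⟨nat_lit 12, nat_lit 0, nat_lit 0x240000880049fb66001c759b32001ed1006d9f709580254f48986814a6e52d30⟩, ⟨nat_lit 1, nat_lit 0, nat_lit 0⟩, ⟨nat_lit 0, nat_lit 0, nat_lit 0⟩, ⟨nat_lit 0, nat_lit 0, nat_lit 0⟩, ⟨nat_lit 0, nat_lit 0, nat_lit 0⟩, ⟨nat_lit 3, nat_lit 0, nat_lit 0⟩, ⟨nat_lit 2, nat_lit 0, nat_lit 0⟩, ⟨nat_lit 2, nat_lit 0, nat_lit 0⟩, ⟨nat_lit 5, nat_lit 1, nat_lit 0xd4b4000011ed800ecc04008000449f7b43da15987b9a5370528594908aa8f1d40d⟩, ⟨nat_lit 1, nat_lit 0, nat_lit 0⟩, ⟨nat_lit 1, nat_lit 0, nat_lit 0⟩, ⟨nat_lit 0, nat_lit 0, nat_lit 0⟩, ⟨nat_lit 0, nat_lit 0, nat_lit 0⟩, ⟨nat_lit 3, nat_lit 0, nat_lit 0⟩, ⟨nat_lit 0, nat_lit 0, nat_lit 0⟩, ⟨nat_lit 5, nat_lit 1, nat_lit 0x804009b30012007b4b666e30403dae3ad4b9d88caa4a392162350e16aae0839f1⟩,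 ⟨nat_lit 1, nat_lit 0, nat_lit 0⟩, ⟨nat_lit 1, nat_lit 0, nat_lit 0⟩, ⟨nat_lit 0, nat_lit 0, nat_lit 0⟩, ⟨nat_lit 0, nat_lit 0, nat_lit 0⟩, ⟨nat_lit 3, nat_lit 0, nat_lit 0⟩, ⟨nat_lit 0, nat_lit 0, nat_lit 0⟩, ⟨nat_lit 5, nat_lit 1, nat_lit 0x409b3001c757b4002020800008ecc3dab1d911804b6377990aa9c305ce85189d6⟩, ⟨nat_lit 1, nat_lit 0, nat_lit 0⟩, ⟨nat_lit 1, nat_lit 0, nat_lit 0⟩, ⟨nat_lit 0, nat_lit 0, nat_lit 0⟩, ⟨nat_lit 0, nat_lit 0, nat_lit 0⟩, ⟨nat_lit 3, nat_lit 0, nat_lit 0⟩, ⟨nat_lit 1, nat_lit 0, nat_lit 0⟩, ⟨nat_lit 2, nat_lit 0, nat_lit 0⟩, ⟨nat_lit 4, nat_lit 0, nat_lit 0xecc010c756e31000202007b4400e3a80049f34003a46a9b2ee1509ed2924e44d87⟩, ⟨nat_lit 1, nat_lit 0, nat_lit 0⟩, ⟨nat_lit 0, nat_lit 0, nat_lit 0⟩, ⟨nat_lit 0, nat_lit 0, nat_lit 0⟩, ⟨nat_lit 3, nat_lit 0, nat_lit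 0⟩, ⟨nat_lit 0, nat_lit 0, nat_lit 0⟩, ⟨nat_lit 4, nat_lit 0, nat_lit 0x8006e30401000802000200103dab66002001b8e549d630415ac11c0f505c4b2cc9⟩, ⟨nat_lit 1, nat_lit 0, nat_lit 0⟩, ⟨nat_lit 1, nat_lit 0, nat_lit 0⟩, ⟨nat_lit 0, nat_lit 0, nat_lit 0⟩, ⟨nat_lit 3, nat_lit 0, nat_lit 0⟩, ⟨nat_lit 12, nat_lit 1, nat_lit 0xc7502010000208004049f3da0106e32009b30468d9c82880ea4b9dcf5144c32576⟩, ⟨nat_lit 1, nat_lit 0, nat_lit 0⟩, ⟨nat_lit 1, nat_lit 0, nat_lit 0⟩, ⟨nat_lit 1, nat_lit 0, nat_lit 0⟩, ⟨nat_lit 0, nat_lit 0, nat_lit 0⟩, ⟨nat_lit 3, nat_lit 0, nat_lit 0⟩, ⟨nat_lit 1, nat_lit 0, nat_lit 0⟩],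
  [⟨nat_lit 0, nat_lit 0, nat_lit 0⟩, ⟨nat_lit 0, nat_lit 0, nat_lit 0⟩, ⟨nat_lit 12, nat_lit 0, nat_lit 0x1ed800d4b0040010209b30800100086e3e3a3dc4e6449383c6b2d40a4850db5246⟩, ⟨nat_lit 1, nat_lit 0, nat_lit 0⟩, ⟨nat_lit 0, nat_lit 0, nat_lit 0⟩, ⟨nat_lit 0, nat_lit 0, nat_lit 0⟩, ⟨nat_lit 0, nat_lit 0, nat_lit 0⟩, ⟨nat_lit 3, nat_lit 0, nat_lit 0⟩, ⟨nat_lit 2, nat_lit 0, nat_lit 0⟩, ⟨nat_lit 2, nat_lit 0, nat_lit 0⟩, ⟨nat_lit 14, nat_lit 0, nat_lit 0x100b66008800e3a0802009b31ed6e30207b4a15f75cea438e29831c6b204a9040d⟩, ⟨nat_lit 1, nat_lit 0, nat_lit 0⟩, ⟨nat_lit 1, nat_lit 0, nat_lit 0⟩, ⟨nat_lit 0, nat_lit 0, nat_lit 0⟩, ⟨nat_lit 0, nat_lit 0, nat_lit 0⟩, ⟨nat_lit 3, nat_lit 0, nat_lit 0⟩, ⟨nat_lit 0, nat_lit 0, nat_lit 0⟩, ⟨nat_lit 14, nat_lit 0, nat_lit 0x1008800004d4b010ecc10049f1ed08000263eee140d409e6d400b21c5355588b⟩,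 ⟨nat_lit 1, nat_lit 0, nat_lit 0⟩, ⟨nat_lit 1, nat_lit 0, nat_lit 0⟩, ⟨nat_lit 0, nat_lit 0, nat_lit 0⟩, ⟨nat_lit 0, nat_lit 0, nat_lit 0⟩, ⟨nat_lit 3, nat_lit 0, nat_lit 0⟩, ⟨nat_lit 0, nat_lit 0, nat_lit 0⟩, ⟨nat_lit 14, nat_lit 0, nat_lit 0x200d4becc0040081007b408001049f6e33daa88ce7d1338046892a243daec6940b⟩, ⟨nat_lit 1, nat_lit 0, nat_lit 0⟩, ⟨nat_lit 1, nat_lit 0, nat_lit 0⟩, ⟨nat_lit 0, nat_lit 0, nat_lit 0⟩, ⟨nat_lit 0, nat_lit 0, nat_lit 0⟩, ⟨nat_lit 3, nat_lit 0, nat_lit 0⟩, ⟨nat_lit 1, nat_lit 0, nat_lit 0⟩, ⟨nat_lit 2, nat_lit 0, nat_lit 0⟩, ⟨nat_lit 4, nat_lit 0, nat_lit 0x9b3020e3a2000010400081ed080b1decc49f24575649e79a8c1b94681020eb51a9⟩, ⟨nat_lit 1, nat_lit 0, nat_lit 0⟩, ⟨nat_lit 0, nat_lit 0, nat_lit 0⟩, ⟨nat_lit 0, nat_lit 0, nat_lit 0⟩, ⟨nat_lit 3, nat_lit 0, nat_lit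 0⟩, ⟨nat_lit 0, nat_lit 0, nat_lit 0⟩, ⟨nat_lit 8, nat_lit 0, nat_lit 0x8100ecce3a6e37b401049fd4b3da4001ed7d0cb1a601122c7aaa40636642c6ee⟩, ⟨nat_lit 1, nat_lit 0, nat_lit 0⟩, ⟨nat_lit 1, nat_lit 0, nat_lit 0⟩, ⟨nat_lit 0, nat_lit 0, nat_lit 0⟩, ⟨nat_lit 0, nat_lit 0, nat_lit 0⟩, ⟨nat_lit 3, nat_lit 0, nat_lit 0⟩, ⟨nat_lit 2, nat_lit 0, nat_lit 0⟩, ⟨nat_lit 4, nat_lit 0, nat_lit 0x40004001000849f0807b4d4bc75e3a3da001b4a0f0cd2202d0ca29a33d4c4896ee⟩, ⟨nat_lit 1, nat_lit 0, nat_lit 0⟩, ⟨nat_lit 1, nat_lit 0, nat_lit 0⟩, ⟨nat_lit 0, nat_lit 0, nat_lit 0⟩, ⟨nat_lit 3, nat_lit 0, nat_lit 0⟩, ⟨nat_lit 0, nat_lit 0, nat_lit 0⟩, ⟨nat_lit 8, nat_lit 0, nat_lit 0x800008100200c75040b6649f6e30040027b4bbe95048a11b9a981a62b222b3a88c⟩, ⟨nat_lit 1, nat_lit 0, nat_lit 0⟩, ⟨nat_lit 1, nat_lit 0, nat_lit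 0⟩, ⟨nat_lit 0, nat_lit 0, nat_lit 0⟩, ⟨nat_lit 0, nat_lit 0, nat_lit 0⟩, ⟨nat_lit 3, nat_lit 0, nat_lit 0⟩, ⟨nat_lit 12, nat_lit 1, nat_lit 0xe3ad4b200040080100ecc0103da7b400200458ab29d0d0425ae05c6f286d161c8a⟩, ⟨nat_lit 1, nat_lit 0, nat_lit 0⟩, ⟨nat_lit 1, nat_lit 0, nat_lit 0⟩, ⟨nat_lit 1, nat_lit 0, nat_lit 0⟩, ⟨nat_lit 0, nat_lit 0, nat_lit 0⟩, ⟨nat_lit 3, nat_lit 0, nat_lit 0⟩, ⟨nat_lit 1, nat_lit 0, nat_lit 0⟩],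
  [⟨nat_lit 6, nat_lit 0, nat_lit 0x3da20002049f9b31006e38004000020040014562125077b35cc514ef30a700492b⟩, ⟨nat_lit 0, nat_lit 0, nat_lit 0⟩, ⟨nat_lit 0, nat_lit 0, nat_lit 0⟩, ⟨nat_lit 3, nat_lit 0, nat_lit 0⟩, ⟨nat_lit 0, nat_lit 0, nat_lit 0⟩, ⟨nat_lit 15, nat_lit 1, nat_lit 0xc75b1d7b46e3200eccd4b10080040049f00202923a9854bd82d7c58e2c17222267⟩, ⟨nat_lit 1, nat_lit 0, nat_lit 0⟩, ⟨nat_lit 1, nat_lit 0, nat_lit 0⟩, ⟨nat_lit 0, nat_lit 0, nat_lit 0⟩, ⟨nat_lit 0, nat_lit 0, nat_lit 0⟩, ⟨nat_lit 3, nat_lit 0, nat_lit 0⟩, ⟨nat_lit 0, nat_lit 0, nat_lit 0⟩, ⟨nat_lit 15, nat_lit 1, nat_lit 0xd4b8006e349f9b37b4e3a0803dac75ecc01015c6122573400d073e87556cc69651⟩, ⟨nat_lit 1, nat_lit 0, nat_lit 0⟩, ⟨nat_lit 1, nat_lit 0, nat_lit 0⟩, ⟨nat_lit 0, nat_lit 0, nat_lit 0⟩, ⟨nat_lit 0, nat_lit 0, nat_lit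 0⟩, ⟨nat_lit 3, nat_lit 0, nat_lit 0⟩, ⟨nat_lit 0, nat_lit 0, nat_lit 0⟩, ⟨nat_lit 15, nat_lit 1, nat_lit 0x7b4b1dc75400b66d4becc0200026e3e3a8004a816288d168d777d192ac02e22267⟩, ⟨nat_lit 1, nat_lit 0, nat_lit 0⟩, ⟨nat_lit 1, nat_lit 0, nat_lit 0⟩, ⟨nat_lit 0, nat_lit 0, nat_lit 0⟩, ⟨nat_lit 0, nat_lit 0, nat_lit 0⟩, ⟨nat_lit 3, nat_lit 0, nat_lit 0⟩, ⟨nat_lit 0, nat_lit 0, nat_lit 0⟩, ⟨nat_lit 15, nat_lit 1, nat_lit 0xb66008800020d4b1edb1d0401000049b32002bef111d52a38959b56009983b4128⟩, ⟨nat_lit 1, nat_lit 0, nat_lit 0⟩, ⟨nat_lit 1, nat_lit 0, nat_lit 0⟩, ⟨nat_lit 0, nat_lit 0, nat_lit 0⟩, ⟨nat_lit 0, nat_lit 0, nat_lit 0⟩, ⟨nat_lit 3, nat_lit 0, nat_lit 0⟩, ⟨nat_lit 2, nat_lit 0, nat_lit 0⟩, ⟨nat_lit 2, nat_lit 0, nat_lit 0⟩, ⟨nat_lit 2, nat_lit 0, nat_lit 0⟩, ⟨nat_lit 16, nat_lit 0,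 nat_lit 0x89b38001ed00200140010049fe3a004200792e76b2d40add58c8a01290349a13⟩, ⟨nat_lit 1, nat_lit 0, nat_lit 0⟩, ⟨nat_lit 1, nat_lit 0, nat_lit 0⟩, ⟨nat_lit 0, nat_lit 0, nat_lit 0⟩, ⟨nat_lit 0, nat_lit 0, nat_lit 0⟩, ⟨nat_lit 3, nat_lit 0, nat_lit 0⟩, ⟨nat_lit 1, nat_lit 0, nat_lit 0⟩, ⟨nat_lit 1, nat_lit 0, nat_lit 0⟩, ⟨nat_lit 1, nat_lit 0, nat_lit 0⟩],
  [⟨nat_lit 0, nat_lit 0, nat_lit 0⟩, ⟨nat_lit 0, nat_lit 0, nat_lit 0⟩, ⟨nat_lit 0, nat_lit 0, nat_lit 0⟩, ⟨nat_lit 1, nat_lit 0, nat_lit 0⟩, ⟨nat_lit 0, nat_lit 0, nat_lit 0⟩, ⟨nat_lit 16, nat_lit 0, nat_lit 0x6e33dab1d010040080004100ecc0200010021a15094dd43458d3d4965bc49b9401⟩, ⟨nat_lit 1, nat_lit 0, nat_lit 0⟩, ⟨nat_lit 1, nat_lit 0, nat_lit 0⟩, ⟨nat_lit 0, nat_lit 0, nat_lit 0⟩, ⟨nat_lit 0, nat_lit 0, nat_lit 0⟩, ⟨nat_lit 3, nat_lit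 0, nat_lit 0⟩, ⟨nat_lit 2, nat_lit 0, nat_lit 0⟩, ⟨nat_lit 2, nat_lit 0, nat_lit 0⟩, ⟨nat_lit 1, nat_lit 0, nat_lit 0⟩, ⟨nat_lit 0, nat_lit 0, nat_lit 0⟩, ⟨nat_lit 1, nat_lit 0, nat_lit 0⟩],
  [⟨nat_lit 0, nat_lit 0, nat_lit 0⟩, ⟨nat_lit 0, nat_lit 0, nat_lit 0⟩, ⟨nat_lit 0, nat_lit 0, nat_lit 0⟩, ⟨nat_lit 0, nat_lit 0, nat_lit 0⟩, ⟨nat_lit 0, nat_lit 0, nat_lit 0⟩, ⟨nat_lit 0, nat_lit 0, nat_lit 0⟩, ⟨nat_lit 16, nat_lit 0, nat_lit 0xc75200400e3a001ecc49f1ed9b3d4b7b4080056cb6182720933a21aa8486f2ba37⟩, ⟨nat_lit 1, nat_lit 0, nat_lit 0⟩, ⟨nat_lit 1, nat_lit 0, nat_lit 0⟩, ⟨nat_lit 0, nat_lit 0, nat_lit 0⟩, ⟨nat_lit 0, nat_lit 0, nat_lit 0⟩, ⟨nat_lit 3, nat_lit 0, nat_lit 0⟩, ⟨nat_lit 2, nat_lit 0, nat_lit 0⟩, ⟨nat_lit 16, nat_lit 0, nat_lit 0x4008010b1d0400016e3100eccd4b080e3a73e0a9307430a6b224f66a235b9401⟩,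 ⟨nat_lit 1, nat_lit 0, nat_lit 0⟩, ⟨nat_lit 1, nat_lit 0, nat_lit 0⟩, ⟨nat_lit 0, nat_lit 0, nat_lit 0⟩, ⟨nat_lit 0, nat_lit 0, nat_lit 0⟩, ⟨nat_lit 3, nat_lit 0, nat_lit 0⟩, ⟨nat_lit 2, nat_lit 0, nat_lit 0⟩, ⟨nat_lit 16, nat_lit 0, nat_lit 0x49f0019b30087b41edc75200002b663da0400b08f49c15695129d94ba42e670c51⟩, ⟨nat_lit 1, nat_lit 0, nat_lit 0⟩, ⟨nat_lit 1, nat_lit 0, nat_lit 0⟩, ⟨nat_lit 0, nat_lit 0, nat_lit 0⟩, ⟨nat_lit 0, nat_lit 0, nat_lit 0⟩, ⟨nat_lit 3, nat_lit 0, nat_lit 0⟩, ⟨nat_lit 2, nat_lit 0, nat_lit 0⟩, ⟨nat_lit 16, nat_lit 0, nat_lit 0x6e3008010b1d400001004ecc1000200800021be0ab31c6a466d254f25a049080b7⟩, ⟨nat_lit 1, nat_lit 0, nat_lit 0⟩, ⟨nat_lit 1, nat_lit 0, nat_lit 0⟩, ⟨nat_lit 0, nat_lit 0, nat_lit 0⟩, ⟨nat_lit 0, nat_lit 0, nat_lit 0⟩, ⟨nat_lit 3, nat_lit 0, nat_lit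 0⟩, ⟨nat_lit 2, nat_lit 0, nat_lit 0⟩, ⟨nat_lit 2, nat_lit 0, nat_lit 0⟩, ⟨nat_lit 1, nat_lit 0, nat_lit 0⟩, ⟨nat_lit 0, nat_lit 0, nat_lit 0⟩, ⟨nat_lit 0, nat_lit 0, nat_lit 0⟩, ⟨nat_lit 0, nat_lit 0, nat_lit 0⟩, ⟨nat_lit 17, nat_lit 0, nat_lit 0xb1dc757b4100b660400016e38003dae3a010501342c983ba17074c223c5e4336d5⟩, ⟨nat_lit 1, nat_lit 0, nat_lit 0⟩, ⟨nat_lit 1, nat_lit 0, nat_lit 0⟩, ⟨nat_lit 1, nat_lit 0, nat_lit 0⟩, ⟨nat_lit 0, nat_lit 0, nat_lit 0⟩, ⟨nat_lit 3, nat_lit 0, nat_lit 0⟩, ⟨nat_lit 1, nat_lit 0, nat_lit 0⟩],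
  [⟨nat_lit 0, nat_lit 0, nat_lit 0⟩, ⟨nat_lit 0, nat_lit 0, nat_lit 0⟩, ⟨nat_lit 0, nat_lit 0, nat_lit 0⟩, ⟨nat_lit 0, nat_lit 0, nat_lit 0⟩, ⟨nat_lit 16, nat_lit 0, nat_lit 0x3da49f6e3b66002800001200eccb1dd4b7b4404656dd95328498add6a01f29c087⟩, ⟨nat_lit 1, nat_lit 0, nat_lit 0⟩, ⟨nat_lit 1, nat_lit 0, nat_lit 0⟩, ⟨nat_lit 0, nat_lit 0, nat_lit 0⟩, ⟨nat_lit 0, nat_lit 0, nat_lit 0⟩, ⟨nat_lit 3, nat_lit 0, nat_lit 0⟩, ⟨nat_lit 2, nat_lit 0, nat_lit 0⟩, ⟨nat_lit 16, nat_lit 0, nat_lit 0x6e3008010b1d400001004ecc1000200800021be0ab31c6a466d254f25a049080b7⟩, ⟨nat_lit 1, nat_lit 0, nat_lit 0⟩, ⟨nat_lit 1, nat_lit 0, nat_lit 0⟩, ⟨nat_lit 0, nat_lit 0, nat_lit 0⟩, ⟨nat_lit 0, nat_lit 0, nat_lit 0⟩, ⟨nat_lit 3, nat_lit 0, nat_lit 0⟩, ⟨nat_lit 2, nat_lit 0, nat_lit 0⟩, ⟨nat_lit 2, nat_lit 0,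 nat_lit 0⟩, ⟨nat_lit 1, nat_lit 0, nat_lit 0⟩, ⟨nat_lit 0, nat_lit 0, nat_lit 0⟩, ⟨nat_lit 0, nat_lit 0, nat_lit 0⟩, ⟨nat_lit 0, nat_lit 0, nat_lit 0⟩, ⟨nat_lit 16, nat_lit 0, nat_lit 0x100b6649f004080020e3a0101ed7b4c753daa142e9c5703a40813c6455e4c35aad⟩, ⟨nat_lit 1, nat_lit 0, nat_lit 0⟩, ⟨nat_lit 1, nat_lit 0, nat_lit 0⟩, ⟨nat_lit 0, nat_lit 0, nat_lit 0⟩, ⟨nat_lit 0, nat_lit 0, nat_lit 0⟩, ⟨nat_lit 3, nat_lit 0, nat_lit 0⟩, ⟨nat_lit 2, nat_lit 0, nat_lit 0⟩, ⟨nat_lit 2, nat_lit 0, nat_lit 0⟩, ⟨nat_lit 1, nat_lit 0, nat_lit 0⟩, ⟨nat_lit 0, nat_lit 0, nat_lit 0⟩, ⟨nat_lit 1, nat_lit 0, nat_lit 0⟩],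
  [],
  [⟨nat_lit 0, nat_lit 0, nat_lit 0⟩, ⟨nat_lit 0, nat_lit 0, nat_lit 0⟩, ⟨nat_lit 21, nat_lit 0, nat_lit 0xecc0803da1ed6e30084000040200409b380034d071bece8c897606022aa806ad35⟩, ⟨nat_lit 1, nat_lit 0, nat_lit 0⟩, ⟨nat_lit 0, nat_lit 0, nat_lit 0⟩, ⟨nat_lit 0, nat_lit 0, nat_lit 0⟩, ⟨nat_lit 0, nat_lit 0, nat_lit 0⟩, ⟨nat_lit 3, nat_lit 0, nat_lit 0⟩, ⟨nat_lit 2, nat_lit 0, nat_lit 0⟩, ⟨nat_lit 2, nat_lit 0, nat_lit 0⟩, ⟨nat_lit 16, nat_lit 0, nat_lit 0x400b6649f020b1dc75ecc0083da2000041edb1431500cf455c71ceec209b04d24b⟩, ⟨nat_lit 1, nat_lit 0, nat_lit 0⟩, ⟨nat_lit 1, nat_lit 0, nat_lit 0⟩, ⟨nat_lit 0, nat_lit 0, nat_lit 0⟩, ⟨nat_lit 0, nat_lit 0, nat_lit 0⟩, ⟨nat_lit 3, nat_lit 0, nat_lit 0⟩, ⟨nat_lit 0, nat_lit 0, nat_lit 0⟩, ⟨nat_lit 16, nat_lit 0, nat_lit 0x400c756e38003dad4beccb1d001002b661edb0077408ca634a78c02f23ab392574⟩,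 ⟨nat_lit 1, nat_lit 0, nat_lit 0⟩, ⟨nat_lit 1, nat_lit 0, nat_lit 0⟩, ⟨nat_lit 0, nat_lit 0, nat_lit 0⟩, ⟨nat_lit 0, nat_lit 0, nat_lit 0⟩, ⟨nat_lit 3, nat_lit 0, nat_lit 0⟩, ⟨nat_lit 0, nat_lit 0, nat_lit 0⟩, ⟨nat_lit 16, nat_lit 0, nat_lit 0x49f400002ecc9b3e3a800b1d0800201001ed0d9a622eea9c687ab2487a4502b860⟩, ⟨nat_lit 1, nat_lit 0, nat_lit 0⟩, ⟨nat_lit 1, nat_lit 0, nat_lit 0⟩, ⟨nat_lit 0, nat_lit 0, nat_lit 0⟩, ⟨nat_lit 0, nat_lit 0, nat_lit 0⟩, ⟨nat_lit 3, nat_lit 0, nat_lit 0⟩, ⟨nat_lit 1, nat_lit 0, nat_lit 0⟩, ⟨nat_lit 21, nat_lit 1, nat_lit 0x49f2000021009b3ecc0203dab1dd4be3a0010d5b421a285096c942d37a6e7281c3⟩, ⟨nat_lit 1, nat_lit 0, nat_lit 0⟩, ⟨nat_lit 1, nat_lit 0, nat_lit 0⟩, ⟨nat_lit 1, nat_lit 0, nat_lit 0⟩, ⟨nat_lit 0, nat_lit 0, nat_lit 0⟩, ⟨nat_lit 3, nat_lit 0, nat_lit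 0⟩, ⟨nat_lit 1, nat_lit 0, nat_lit 0⟩],
  [⟨nat_lit 0, nat_lit 0, nat_lit 0⟩, ⟨nat_lit 0, nat_lit 0, nat_lit 0⟩, ⟨nat_lit 21, nat_lit 0, nat_lit 0xb669b31ed6e30100011003da7b4002d4b004290e3832884b44e55c0b90635b1a6f⟩, ⟨nat_lit 1, nat_lit 0, nat_lit 0⟩, ⟨nat_lit 0, nat_lit 0, nat_lit 0⟩, ⟨nat_lit 0, nat_lit 0, nat_lit 0⟩, ⟨nat_lit 0, nat_lit 0, nat_lit 0⟩, ⟨nat_lit 3, nat_lit 0, nat_lit 0⟩, ⟨nat_lit 2, nat_lit 0, nat_lit 0⟩, ⟨nat_lit 2, nat_lit 0, nat_lit 0⟩, ⟨nat_lit 16, nat_lit 0, nat_lit 0xc750403da001080b1d0200101ed49f008ecc0490c9aa30385e65d9246d1d51dca2⟩, ⟨nat_lit 1, nat_lit 0, nat_lit 0⟩, ⟨nat_lit 1, nat_lit 0, nat_lit 0⟩, ⟨nat_lit 0, nat_lit 0, nat_lit 0⟩, ⟨nat_lit 0, nat_lit 0, nat_lit 0⟩, ⟨nat_lit 3, nat_lit 0, nat_lit 0⟩, ⟨nat_lit 0, nat_lit 0, nat_lit 0⟩, ⟨nat_lit 16, nat_lit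 0, nat_lit 0xb660019b31edc750106e349f020d4b0804002b0870406188a767994eaa2ed4ae92⟩, ⟨nat_lit 1, nat_lit 0, nat_lit 0⟩, ⟨nat_lit 1, nat_lit 0, nat_lit 0⟩, ⟨nat_lit 0, nat_lit 0, nat_lit 0⟩, ⟨nat_lit 0, nat_lit 0, nat_lit 0⟩, ⟨nat_lit 3, nat_lit 0, nat_lit 0⟩, ⟨nat_lit 0, nat_lit 0, nat_lit 0⟩, ⟨nat_lit 16, nat_lit 0, nat_lit 0x406e39b349f004d4b3da800e3a0101ed02090c81709175c0f151589b02a67ce8d⟩, ⟨nat_lit 1, nat_lit 0, nat_lit 0⟩, ⟨nat_lit 1, nat_lit 0, nat_lit 0⟩, ⟨nat_lit 0, nat_lit 0, nat_lit 0⟩, ⟨nat_lit 0, nat_lit 0, nat_lit 0⟩, ⟨nat_lit 3, nat_lit 0, nat_lit 0⟩, ⟨nat_lit 1, nat_lit 0, nat_lit 0⟩, ⟨nat_lit 21, nat_lit 1, nat_lit 0x800040206e3e3a8003da040200001c750029ba235dd12ab00d158a6a04e9241ea⟩, ⟨nat_lit 1, nat_lit 0, nat_lit 0⟩, ⟨nat_lit 1, nat_lit 0, nat_lit 0⟩, ⟨nat_lit 1, nat_lit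 0, nat_lit 0⟩, ⟨nat_lit 0, nat_lit 0, nat_lit 0⟩, ⟨nat_lit 3, nat_lit 0, nat_lit 0⟩, ⟨nat_lit 1, nat_lit 0, nat_lit 0⟩],
  [⟨nat_lit 0, nat_lit 0, nat_lit 0⟩, ⟨nat_lit 0, nat_lit 0, nat_lit 0⟩, ⟨nat_lit 21, nat_lit 0, nat_lit 0x4000080101ed6e3080ecc800b662009b3004b3e071ccd72d48e605028a9a0a2572⟩, ⟨nat_lit 1, nat_lit 0, nat_lit 0⟩, ⟨nat_lit 0, nat_lit 0, nat_lit 0⟩, ⟨nat_lit 0, nat_lit 0, nat_lit 0⟩, ⟨nat_lit 0, nat_lit 0, nat_lit 0⟩, ⟨nat_lit 3, nat_lit 0, nat_lit 0⟩, ⟨nat_lit 2, nat_lit 0, nat_lit 0⟩, ⟨nat_lit 2, nat_lit 0, nat_lit 0⟩, ⟨nat_lit 13, nat_lit 1, nat_lit 0xc75040400ecc001002020008b1d49f20008004ac66362f506b3a11683a5d019457⟩, ⟨nat_lit 1, nat_lit 0, nat_lit 0⟩, ⟨nat_lit 1, nat_lit 0, nat_lit 0⟩, ⟨nat_lit 0, nat_lit 0, nat_lit 0⟩, ⟨nat_lit 0, nat_lit 0, nat_lit 0⟩, ⟨nat_lit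 3, nat_lit 0, nat_lit 0⟩, ⟨nat_lit 0, nat_lit 0, nat_lit 0⟩, ⟨nat_lit 13, nat_lit 1, nat_lit 0x200800004020080c754001ed01000249f3daaddd1982c7834282b04450ccf4d172⟩, ⟨nat_lit 1, nat_lit 0, nat_lit 0⟩, ⟨nat_lit 1, nat_lit 0, nat_lit 0⟩, ⟨nat_lit 0, nat_lit 0, nat_lit 0⟩, ⟨nat_lit 0, nat_lit 0, nat_lit 0⟩, ⟨nat_lit 3, nat_lit 0, nat_lit 0⟩, ⟨nat_lit 0, nat_lit 0, nat_lit 0⟩, ⟨nat_lit 13, nat_lit 1, nat_lit 0x1b66c75020ecc800080e3a2003da6e37b46141135e6baa069158326b8f47c144⟩, ⟨nat_lit 1, nat_lit 0, nat_lit 0⟩, ⟨nat_lit 1, nat_lit 0, nat_lit 0⟩, ⟨nat_lit 0, nat_lit 0, nat_lit 0⟩, ⟨nat_lit 0, nat_lit 0, nat_lit 0⟩, ⟨nat_lit 3, nat_lit 0, nat_lit 0⟩, ⟨nat_lit 1, nat_lit 0, nat_lit 0⟩, ⟨nat_lit 21, nat_lit 1, nat_lit 0x800040206e3e3a8003da040200001c750029ba235dd12ab00d158a6a04e9241ea⟩, ⟨nat_lit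 1, nat_lit 0, nat_lit 0⟩, ⟨nat_lit 1, nat_lit 0, nat_lit 0⟩, ⟨nat_lit 1, nat_lit 0, nat_lit 0⟩, ⟨nat_lit 0, nat_lit 0, nat_lit 0⟩, ⟨nat_lit 3, nat_lit 0, nat_lit 0⟩, ⟨nat_lit 1, nat_lit 0, nat_lit 0⟩],
  [⟨nat_lit 0, nat_lit 0, nat_lit 0⟩, ⟨nat_lit 0, nat_lit 0, nat_lit 0⟩, ⟨nat_lit 21, nat_lit 0, nat_lit 0x800004001100002ecc400e3a0080201edb66bb99469acb7c4e54015098ea490829⟩, ⟨nat_lit 1, nat_lit 0, nat_lit 0⟩, ⟨nat_lit 0, nat_lit 0, nat_lit 0⟩, ⟨nat_lit 0, nat_lit 0, nat_lit 0⟩, ⟨nat_lit 0, nat_lit 0, nat_lit 0⟩, ⟨nat_lit 3, nat_lit 0, nat_lit 0⟩, ⟨nat_lit 2, nat_lit 0, nat_lit 0⟩, ⟨nat_lit 2, nat_lit 0, nat_lit 0⟩, ⟨nat_lit 15, nat_lit 1, nat_lit 0x40b66020c759b349f7b41ed010e3a0043da916202052782dc813c7355e8cab4d6⟩, ⟨nat_lit 1, nat_lit 0, nat_lit 0⟩, ⟨nat_lit 1, nat_lit 0, nat_lit 0⟩,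 ⟨nat_lit 0, nat_lit 0, nat_lit 0⟩, ⟨nat_lit 0, nat_lit 0, nat_lit 0⟩, ⟨nat_lit 3, nat_lit 0, nat_lit 0⟩, ⟨nat_lit 0, nat_lit 0, nat_lit 0⟩, ⟨nat_lit 14, nat_lit 1, nat_lit 0x2000207b4e3a0801000029b3010400040d4bac52b9d1a485a42014271b8d7531e8⟩, ⟨nat_lit 1, nat_lit 0, nat_lit 0⟩, ⟨nat_lit 1, nat_lit 0, nat_lit 0⟩, ⟨nat_lit 0, nat_lit 0, nat_lit 0⟩, ⟨nat_lit 0, nat_lit 0, nat_lit 0⟩, ⟨nat_lit 3, nat_lit 0, nat_lit 0⟩, ⟨nat_lit 0, nat_lit 0, nat_lit 0⟩, ⟨nat_lit 15, nat_lit 1, nat_lit 0x19b3008b66800c756e3200d4b004010020611e5b807513a116d9720cce9520d4⟩, ⟨nat_lit 1, nat_lit 0, nat_lit 0⟩, ⟨nat_lit 1, nat_lit 0, nat_lit 0⟩, ⟨nat_lit 0, nat_lit 0, nat_lit 0⟩, ⟨nat_lit 0, nat_lit 0, nat_lit 0⟩, ⟨nat_lit 3, nat_lit 0, nat_lit 0⟩, ⟨nat_lit 1, nat_lit 0, nat_lit 0⟩, ⟨nat_lit 21, nat_lit 1, nat_lit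 0xe3a0809b300180001004049f0044003dac755cc8cbc24175900794e38a9a235135⟩, ⟨nat_lit 1, nat_lit 0, nat_lit 0⟩, ⟨nat_lit 1, nat_lit 0, nat_lit 0⟩, ⟨nat_lit 1, nat_lit 0, nat_lit 0⟩, ⟨nat_lit 0, nat_lit 0, nat_lit 0⟩, ⟨nat_lit 3, nat_lit 0, nat_lit 0⟩, ⟨nat_lit 1, nat_lit 0, nat_lit 0⟩],
  [⟨nat_lit 0, nat_lit 0, nat_lit 0⟩, ⟨nat_lit 25, nat_lit 1, nat_lit 0xb661003daeccb1d4000040010026e30080802d106559cc68df3240f54c82b14417⟩, ⟨nat_lit 1, nat_lit 0, nat_lit 0⟩, ⟨nat_lit 0, nat_lit 0, nat_lit 0⟩, ⟨nat_lit 0, nat_lit 0, nat_lit 0⟩, ⟨nat_lit 0, nat_lit 0, nat_lit 0⟩, ⟨nat_lit 3, nat_lit 0, nat_lit 0⟩, ⟨nat_lit 2, nat_lit 0, nat_lit 0⟩, ⟨nat_lit 23, nat_lit 1, nat_lit 0xb66010100080400eccc758007b41ed9b30202c293b181749c91705e290d955a90d⟩, ⟨nat_lit 1, nat_lit 0, nat_lit 0⟩, ⟨nat_lit 0, nat_lit 0,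 nat_lit 0⟩, ⟨nat_lit 0, nat_lit 0, nat_lit 0⟩, ⟨nat_lit 0, nat_lit 0, nat_lit 0⟩, ⟨nat_lit 3, nat_lit 0, nat_lit 0⟩, ⟨nat_lit 2, nat_lit 0, nat_lit 0⟩, ⟨nat_lit 2, nat_lit 0, nat_lit 0⟩, ⟨nat_lit 14, nat_lit 1, nat_lit 0x19b3e3a6e3200800080020c7501004000261163ade710424d5050671df611534⟩, ⟨nat_lit 1, nat_lit 0, nat_lit 0⟩, ⟨nat_lit 1, nat_lit 0, nat_lit 0⟩, ⟨nat_lit 0, nat_lit 0, nat_lit 0⟩, ⟨nat_lit 0, nat_lit 0, nat_lit 0⟩, ⟨nat_lit 3, nat_lit 0, nat_lit 0⟩, ⟨nat_lit 0, nat_lit 0, nat_lit 0⟩, ⟨nat_lit 0, nat_lit 0, nat_lit 0⟩, ⟨nat_lit 0, nat_lit 0, nat_lit 0⟩, ⟨nat_lit 14, nat_lit 0, nat_lit 0xb1d0200806e37b40404003da002d4bc751ed546634cac868807854ab252ef3382c⟩, ⟨nat_lit 1, nat_lit 0, nat_lit 0⟩, ⟨nat_lit 1, nat_lit 0, nat_lit 0⟩, ⟨nat_lit 0, nat_lit 0, nat_lit 0⟩, ⟨nat_lit 0, nat_lit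 0, nat_lit 0⟩, ⟨nat_lit 3, nat_lit 0, nat_lit 0⟩, ⟨nat_lit 2, nat_lit 0, nat_lit 0⟩, ⟨nat_lit 25, nat_lit 0, nat_lit 0x800b660200029b3400e3a001c75200008b1db962d2596c055eaa08c71ce0143932⟩, ⟨nat_lit 1, nat_lit 0, nat_lit 0⟩, ⟨nat_lit 1, nat_lit 0, nat_lit 0⟩, ⟨nat_lit 1, nat_lit 0, nat_lit 0⟩, ⟨nat_lit 0, nat_lit 0, nat_lit 0⟩, ⟨nat_lit 3, nat_lit 0, nat_lit 0⟩, ⟨nat_lit 0, nat_lit 0, nat_lit 0⟩, ⟨nat_lit 23, nat_lit 0, nat_lit 0x9b37b4b1d040100010e3a001400008ecc00422552a416cb3cce38d132b6b710411⟩, ⟨nat_lit 1, nat_lit 0, nat_lit 0⟩, ⟨nat_lit 1, nat_lit 0, nat_lit 0⟩, ⟨nat_lit 1, nat_lit 0, nat_lit 0⟩, ⟨nat_lit 0, nat_lit 0, nat_lit 0⟩, ⟨nat_lit 3, nat_lit 0, nat_lit 0⟩, ⟨nat_lit 1, nat_lit 0, nat_lit 0⟩],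
  [⟨nat_lit 0, nat_lit 0, nat_lit 0⟩, ⟨nat_lit 26, nat_lit 0, nat_lit 0xecc010b660087b49b31ed800020b1d00249f340af490f78a9a10556294c76621d4⟩, ⟨nat_lit 1, nat_lit 0, nat_lit 0⟩, ⟨nat_lit 0, nat_lit 0, nat_lit 0⟩, ⟨nat_lit 3, nat_lit 0, nat_lit 0⟩, ⟨nat_lit 26, nat_lit 0, nat_lit 0x49f002c75ecc0081000400103da400b661ed0b4067d250458a77306a22ef34d451⟩, ⟨nat_lit 1, nat_lit 0, nat_lit 0⟩, ⟨nat_lit 0, nat_lit 0, nat_lit 0⟩, ⟨nat_lit 3, nat_lit 0, nat_lit 0⟩, ⟨nat_lit 1, nat_lit 0, nat_lit 0⟩]]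

noncomputable def ok1 (g c : ℕ) : Bool := bd (Nat.beq g (nat_lit 1)) (fixT (cP c))
noncomputable def ok2 (g c : ℕ) : Bool :=
  ok1 g c || bd (Nat.beq g (nat_lit 2)) (Nat.beq (ap (cA c) (nat_lit 834)) (nat_lit 834))
noncomputable def ok3 (g c : ℕ) : Bool := ok2 g c || bd (Nat.beq g (nat_lit 3)) (fixT (cP c))

theorem st1 : allN 5 (fun i => rwAt inKs ok1 (nthG aF []) (nthG aP []) (Nat.add 3 i)) = true := by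
  decide +kernel
theorem st2 : allN 8 (fun i => rwAt inKs ok2 (nthG aF []) (nthG aP []) (Nat.add 9 i)) = true := by
  decide +kernel
theorem st3 : allN 6 (fun i => rwAt inKs ok3 (nthG aF []) (nthG aP []) (Nat.add 18 i)) = true := by
  decide +kernel

/-- generators of `KS`, and an element that moves `zs` to `v0` -/
def cg0 : ℕ := nat_lit 0x14000100080023dab1d1000409b3080c7565a0f6a154912603053512ce3895d7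
def cg1 : ℕ := nat_lit 0x1049fecc4000027b43da040100080e3a001804d66a512a4d6c1a855381e475cb1
def ck0 : ℕ := nat_lit 0x49f100c75ecce3a0200026e30400042000800d0065c5a393ab3130b7826cf39148

def aKL0 : Lev := ⟨nat_lit 0, nat_lit 0xffffff, (.node (nat_lit 12) (.node (nat_lit 6) (.node (nat_lit 3) (.node (nat_lit 1) (.leaf (nat_lit 0xbdab49ca307b9ac5a928398a418820)) (.node (nat_lit 2) (.leaf (nat_lit 0x9458459ea64b54f74cb645e9018402)) (.leaf (nat_lit 0x790d66a61594d77538f42b11118041)))) (.node (nat_lit 4) (.leaf (nat_lit 0x434d68a5e5bcd6a91e8e6560400861)) (.node (nat_lit 5) (.leaf (nat_lit 0x534b75b8f649221a8e86149807c268)) (.leaf (nat_lit 0x92c969852a0d6f54cf54301071637))))) (.node (nat_lit 9) (.node (nat_lit 7) (.leaf (nat_lit 0x804d66a512a4d6c1a855381e475cb1)) (.node (nat_lit 8) (.leaf (nat_lit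 0xb92b25d1d64c5a1608e6028a38226f)) (.leaf (nat_lit 0x6153619941111688bee0838f3ad1b2)))) (.node (nat_lit 10) (.leaf (nat_lit 0xa898459e89b35571b806286519bd10)) (.node (nat_lit 11) (.leaf (nat_lit 0x7c4c955a643c162b80ac0b903ad1b2)) (.leaf (nat_lit 0x606545d556491b101446b8cee43e70)))))) (.node (nat_lit 18) (.node (nat_lit 15) (.node (nat_lit 13) (.leaf (nat_lit 0x65a0f6a154912603053512ce3895d7)) (.node (nat_lit 14) (.leaf (nat_lit 0xb4c61688d5a2c11415f2bc12e230ea)) (.leaf (nat_lit 0xad136bc72a020a31d3565844746e5)))) (.node (nat_lit 16) (.leaf (nat_lit 0x916c61a5a20556c892e13ba8a7c268)) (.node (nat_lit 17) (.leaf (nat_lit 0xb12251dd2012dd2534e1a30d59a20f)) (.leaf (nat_lit 0xb5c55dc06b0e28abe8984853230ea))))) (.node (nat_lit 21) (.node (nat_lit 19) (.leaf (nat_lit 0x41422581f634c72736e9a461551c8c))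 (.node (nat_lit 20) (.leaf (nat_lit 0x8ceb4048a1139aa81de3622e432576)) (.leaf (nat_lit 0x61440584864a86874ef6844ef6d2b2)))) (.node (nat_lit 22) (.leaf (nat_lit 0x9140158aa9b346c72ae63c6849c1e8)) (.node (nat_lit 23) (.leaf (nat_lit 0x302f1516c722dcf1cc2c409306ca95)) (.leaf (nat_lit 0x5a929d42f40db75b9302985151c8c)))))))⟩
def aKC0 : LevCert := ⟨aKL0,
    [(nat_lit 12, nat_lit 0), (nat_lit 6, nat_lit 1), (nat_lit 23, nat_lit 0), (nat_lit 11, nat_lit 0), (nat_lit 21, nat_lit 1), (nat_lit 2, nat_lit 1), (nat_lit 13, nat_lit 1), (nat_lit 8, nat_lit 0), (nat_lit 7, nat_lit 0), (nat_lit 9, nat_lit 1), (nat_lit 19, nat_lit 0), (nat_lit 18, nat_lit 0), (nat_lit 17, nat_lit 1), (nat_lit 5, nat_lit 0), (nat_lit 14, nat_lit 1), (nat_lit 15, nat_lit 0), (nat_lit 16, nat_lit 1), (nat_lit 3, nat_lit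 0), (nat_lit 1, nat_lit 1), (nat_lit 20, nat_lit 0), (nat_lit 4, nat_lit 0), (nat_lit 10, nat_lit 0), (nat_lit 22, nat_lit 1)],
    [[nat_lit 2, nat_lit 2, nat_lit 0, nat_lit 0, nat_lit 0, nat_lit 0, nat_lit 0, nat_lit 2, nat_lit 0], [nat_lit 4, nat_lit 4, nat_lit 2, nat_lit 4, nat_lit 2, nat_lit 4, nat_lit 2, nat_lit 4, nat_lit 4, nat_lit 4, nat_lit 4]],
    [nat_lit 0x92ac989aa5bb573640ee4128f10460, nat_lit 0xbdab4234aa63a4f5c0c74263308860]⟩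
def aKL1 : Lev := ⟨nat_lit 1, nat_lit 14, (.node (nat_lit 2) (.leaf (nat_lit 0xbdab49ca307b9ac5a928398a418820)) (.node (nat_lit 3) (.leaf (nat_lit 0x92ac989aa5bb573640ee4128f10460)) (.leaf (nat_lit 0xbdab4234aa63a4f5c0c74263308860))))⟩
def aKC1 : LevCert := ⟨aKL1,
    [(nat_lit 2, nat_lit 0), (nat_lit 3, nat_lit 1)],
    [[nat_lit 2, nat_lit 0, nat_lit 0, nat_lit 2, nat_lit 0, nat_lit 2, nat_lit 2, nat_lit 2], [nat_lit 4, nat_lit 4, nat_lit 2, nat_lit 2, nat_lit 4]],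
    [nat_lit 0x7d14c29111bcce96daae5ca0610c20, nat_lit 0x34147bb1258ac929d1ee6a2d510c20]⟩
def aKL2 : Lev := ⟨nat_lit 4, nat_lit 0xfffff0, (.node (nat_lit 14) (.node (nat_lit 9) (.node (nat_lit 6) (.node (nat_lit 5) (.leaf (nat_lit 0xbdab49ca307b9ac5a928398a418820)) (.leaf (nat_lit 0x54d669599569d2e85d142bc9110c20))) (.node (nat_lit 7) (.leaf (nat_lit 0xbb2c9819c8795753d1536923218820)) (.node (nat_lit 8) (.leaf (nat_lit 0x4168d349f64ceacb9e2b23a0a18820)) (.leaf (nat_lit 0x74e553d2ea645a642604b3cab18820))))) (.node (nat_lit 11) (.node (nat_lit 10) (.leaf (nat_lit 0xaa91073e912ca766189759da910c20)) (.leaf (nat_lit 0x4d62545ed0999caa124f3b56c18820))) (.node (nat_lit 12) (.leaf (nat_lit 0x89e92b55c935daf2414b9b0a818820)) (.node (nat_lit 13) (.leaf (nat_lit 0x946cb7a6b0434c42b2f33ba8a18820))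 (.leaf (nat_lit 0x34147bb1258ac929d1ee6a2d510c20)))))) (.node (nat_lit 19) (.node (nat_lit 16) (.node (nat_lit 15) (.leaf (nat_lit 0x626138bd4571115b48d76acf410c20)) (.leaf (nat_lit 0x73526658aa25d6f922878563318820))) (.node (nat_lit 17) (.leaf (nat_lit 0x7d6e55390464236919a74d26b18820)) (.node (nat_lit 18) (.leaf (nat_lit 0x655262ac9771ed06ce514514f10c20)) (.leaf (nat_lit 0x7d14c29111bcce96daae5ca0610c20))))) (.node (nat_lit 21) (.node (nat_lit 20) (.leaf (nat_lit 0x9c52b219ec542d5bb5c79151418820)) (.leaf (nat_lit 0x42d84a2a7593cf7346cd2a60e10c20))) (.node (nat_lit 22) (.leaf (nat_lit 0x9948a5b1f64a0f275626a5e0d10c20)) (.node (nat_lit 23) (.leaf (nat_lit 0x91237839b3450b63ad8f32aa918820)) (.leaf (nat_lit 0x2228dbd55171e46825e55cd9610c20)))))))⟩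
def aKC2 : LevCert := ⟨aKL2,
    [(nat_lit 18, nat_lit 0), (nat_lit 13, nat_lit 1), (nat_lit 6, nat_lit 0), (nat_lit 12, nat_lit 1), (nat_lit 11, nat_lit 0), (nat_lit 7, nat_lit 1), (nat_lit 23, nat_lit 1), (nat_lit 20, nat_lit 0), (nat_lit 14, nat_lit 1), (nat_lit 15, nat_lit 0), (nat_lit 19, nat_lit 1), (nat_lit 22, nat_lit 0), (nat_lit 10, nat_lit 1), (nat_lit 8, nat_lit 0), (nat_lit 9, nat_lit 1), (nat_lit 5, nat_lit 1), (nat_lit 21, nat_lit 0), (nat_lit 17, nat_lit 0), (nat_lit 16, nat_lit 1)],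
    [[nat_lit 0, nat_lit 2, nat_lit 0, nat_lit 2, nat_lit 0, nat_lit 0, nat_lit 0, nat_lit 2, nat_lit 0, nat_lit 0, nat_lit 0, nat_lit 0, nat_lit 0], [nat_lit 2, nat_lit 4, nat_lit 2, nat_lit 4, nat_lit 2, nat_lit 4, nat_lit 4, nat_lit 2, nat_lit 2, nat_lit 4, nat_lit 4, nat_lit 4, nat_lit 4]],
    [nat_lit 0x44526a2df26c2c772af56166410c20, nat_lit 0x6ba70b22895d5eabb2263964410c20]⟩
def aKL3 : Lev := ⟨nat_lit 5, nat_lit 0xffeb60, (.node (nat_lit 16) (.node (nat_lit 11) (.node (nat_lit 8) (.node (nat_lit 6) (.leaf (nat_lit 0xbdab49ca307b9ac5a928398a418820)) (.leaf (nat_lit 0x44526a2df26c2c772af56166410c20))) (.node (nat_lit 9) (.leaf (nat_lit 0xb42928d4d7725aa41de564d6418820)) (.leaf (nat_lit 0xb5de894d6da9a0c8a8b43b92418820)))) (.node (nat_lit 14) (.node (nat_lit 13) (.leaf (nat_lit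 0x85e55352764bda72b1cb5450418820)) (.leaf (nat_lit 0x3422ea5ed5924aa4326d3bd6410c20))) (.node (nat_lit 15) (.leaf (nat_lit 0x8a1b55d1d6496477aa66642e410c20)) (.leaf (nat_lit 0x6bcd6baeae2c92c81e715228410c20))))) (.node (nat_lit 20) (.node (nat_lit 18) (.node (nat_lit 17) (.leaf (nat_lit 0x9c8cbbd90573d2ca29b13d60418820)) (.leaf (nat_lit 0x8c8cb7a4a885ecaab1b33d1c410c20))) (.node (nat_lit 19) (.leaf (nat_lit 0x6a6378164f451c7b28d362ea410c20)) (.leaf (nat_lit 0x4b5132c2ce8ade792ab7650c410c20)))) (.node (nat_lit 22) (.node (nat_lit 21) (.leaf (nat_lit 0xabee5339abb4a2c829093ce8418820)) (.leaf (nat_lit 0x7acae6de759222a49ed461a0418820))) (.node (nat_lit 23) (.leaf (nat_lit 0x995b45d609b2247bb226539e418820)) (.leaf (nat_lit 0x299f3921d56de0c49ed452e2410c20))))))⟩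
def aKC3 : LevCert := ⟨aKL3,
    [(nat_lit 6, nat_lit 0), (nat_lit 20, nat_lit 0), (nat_lit 8, nat_lit 1), (nat_lit 19, nat_lit 0), (nat_lit 17, nat_lit 1), (nat_lit 23, nat_lit 0), (nat_lit 18, nat_lit 1), (nat_lit 21, nat_lit 1), (nat_lit 22, nat_lit 0), (nat_lit 9, nat_lit 1), (nat_lit 11, nat_lit 1), (nat_lit 16, nat_lit 0), (nat_lit 14, nat_lit 1), (nat_lit 13, nat_lit 0), (nat_lit 15, nat_lit 1)],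
    [[nat_lit 0, nat_lit 0, nat_lit 2, nat_lit 2, nat_lit 0, nat_lit 2, nat_lit 2, nat_lit 2, nat_lit 0], [nat_lit 2, nat_lit 2, nat_lit 2, nat_lit 4, nat_lit 2, nat_lit 2, nat_lit 4, nat_lit 2, nat_lit 4]],
    [nat_lit 0x8da6fac2f2a390c59ccd524a410c20, nat_lit 0xbd136819d37c56a6b2a83c8a410c20]⟩
def aKL4 : Lev := ⟨nat_lit 2, nat_lit 12, (.node (nat_lit 3) (.leaf (nat_lit 0xbdab49ca307b9ac5a928398a418820)) (.leaf (nat_lit 0x8da6fac2f2a390c59ccd524a410c20)))⟩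
def aKC4 : LevCert := ⟨aKL4,
    [(nat_lit 3, nat_lit 0)],
    [[nat_lit 2, nat_lit 0]],
    [nat_lit 0x7520f4cee6b450a69e4b654a418820]⟩
def aKL5 : Lev := ⟨nat_lit 6, nat_lit 0x210040, (.node (nat_lit 16) (.leaf (nat_lit 0xbdab49ca307b9ac5a928398a418820)) (.node (nat_lit 21) (.leaf (nat_lit 0x7520f4cee6b450a69e4b654a418820)) (.leaf (nat_lit 0x8bcd6925d5a5d674326d540a418820))))⟩
def aKC5 : LevCert := ⟨aKL5,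
    [(nat_lit 16, nat_lit 0), (nat_lit 21, nat_lit 0)],
    [],
    []⟩
def aK : List LevCert := [aKC0, aKC1, aKC2, aKC3, aKC4, aKC5]
def aKL : List Lev := [aKL0, aKL1, aKL2, aKL3, aKL4, aKL5]
theorem le_cardKS {S : Subgroup AG} (h : ∀ c ∈ [cg0, cg1], InS S c) : 138240 ≤ Nat.card S :=
  (show 138240 = chainCard 24 (aK.map LevCert.L) * 2 ^ 0 by decide +kernel).le.trans
    (le_card_gens h (by decide +kernel) (M := 0) (Mi := 0) (W := []) (by decide +kernel)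
      (by decide +kernel))

/-- the relator that says that `(T g * a) ^ 3` commutes with `c` -/
noncomputable def cm3 (g a c : ℕ) : Wd := [(g, a), (g, a), (g, cmul (cmul a c) (cinv a)),
  (g, cinv a), (g, cinv a), (g, cinv c)]

theorem aF_eq : nthG aF [] 0 = [(1, cr1), (1, cr1), (1, cr1)] ∧
    nthG aF [] 1 = [(1, cinv cw2), (1, cmul cw2 cp2), (1, cinv cw2), (1, cmul cw2 cp2)] ∧
    nthG aF [] 2 = [(1, cone), (1, cone)] ∧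
    nthG aF [] 5 = cm3 1 crz cg0 ∧ nthG aF [] 6 = cm3 1 crz cg1 ∧
    nthG aF [] 7 = List.replicate 6 (1, crz) ∧
    nthG aF [] 8 = [(2, cone), (1, crz), (1, crz), (1, crz)] ∧
    nthG aF [] 10 = [(1, ck0), (2, cinv ck0), (1, ck0), (2, cmul (cinv ck0) (cinv (clin ca0)))] ∧
    nthG aF [] 14 = cm3 2 clz ckx ∧ nthG aF [] 15 = cm3 2 clz cku ∧
    nthG aF [] 16 = List.replicate 6 (2, clz) ∧
    nthG aF [] 17 = [(3, cone), (2, clz), (2, clz), (2, clz)] ∧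
    nthG aF [] 20 = [(1, cone), (3, cone), (1, cone), (3, cone)] ∧
    nthG aF [] 23 = [(3, cky), (3, cinv cky)] := by decide +kernel

theorem ck0_ok : inKS cg0 = true ∧ inKS cg1 = true ∧ inKs ck0 = true ∧ ap (cA ck0) 834 = 153 ∧
    cV ca0 = 153 := by decide +kernel

end Cfsg.Agent.J4P
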